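import Cfsg.Agent.Cyc.BlockCorner
import Cfsg.Agent.Blk.Osima

/-!
# The centre of a nilpotent block with cyclic defect group
-/

set_option autoImplicit false
set_option linter.unusedSectionVars false
set_option linter.style.haveILetI false

universe u v w

namespace Cfsg.Agent.Cyc

open scoped ComplexConjugate
open Cfsg Cfsg.Agent.Blk Cfsg.Agent.CharBase

variable {H : Type u} [Group H] [Fintype H] {M : Ideal AlgInt} [hMp : M.IsPrime] {p : ℕ}
  [hp : Fact p.Prime] {b : Set (IrrCharacter H)} {Q : Type v} [Group Q] [Fintype Q]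
  [Fintype (Q →* ℂˣ)]

/-- The characters of a nilpotent block, indexed by the linear characters of the (abelian)
defect group. -/
structure NilDat (p : ℕ) (M : Ideal AlgInt) (b : Set (IrrCharacter H)) (Q : Type v) [Group Q]
    [Fintype Q] [Fintype (Q →* ℂˣ)] where
  ch : (Q →* ℂˣ) → IrrCharacter H
  inj : Function.Injective ch
  mem : ∀ ψ, ψ ∈ b ↔ ∃ l, ch l = ψ
  deg : ∀ l, (ch l : H → ℂ) 1 = (ch 1 : H → ℂ) 1
  mlr : ∀ (y : Q) (g : H), MemLocalRing M
    ((ch 1 : H → ℂ) 1 * (Nat.card H : ℂ)⁻¹ * ∑ l : Q →* ℂˣ, ((l y : ℂˣ) : ℂ) * (ch l : H → ℂ) g)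
  reg : ∀ g : H, ¬ p ∣ orderOf g →
    ∑ l : Q →* ℂˣ, (ch l : H → ℂ) g = (Fintype.card Q : ℂ) * (ch 1 : H → ℂ) g
  sing : ∀ g : H, p ∣ orderOf g → ∑ l : Q →* ℂˣ, (ch l : H → ℂ) g = 0

namespace NilDat

variable (d : NilDat p M b Q)

/-- The class functions with central characters `l ↦ l y`. -/
noncomputable def F (y : Q) : H → ℂ := fun g =>
  (d.ch 1 : H → ℂ) 1 * (Nat.card H : ℂ)⁻¹ *
    ∑ l : Q →* ℂˣ, ((l y : ℂˣ) : ℂ) * (d.ch l : H → ℂ) g⁻¹

theorem F_class (y : Q) : IsClassFunction H (d.F y) := by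
  intro g x
  unfold F
  congr 1
  refine Finset.sum_congr rfl fun l _ => ?_
  congr 1
  rw [show (x * g * x⁻¹)⁻¹ = x * g⁻¹ * x⁻¹ by group]
  exact irr_isClassFunction (d.ch l) _ _

theorem F_rv (y : Q) : RV M (d.F y) := fun g => d.mlr y g⁻¹

theorem omega_F [DecidableEq (IrrCharacter H)] (y : Q) (ψ : IrrCharacter H) :
    omega (ψ : H → ℂ) (d.F y) = ∑ l : Q →* ℂˣ, if d.ch l = ψ then ((l y : ℂˣ) : ℂ) else 0 := by
  classical
  have hH : (Nat.card H : ℂ) ≠ 0 := by
    rw [Nat.card_eq_fintype_card]; exact_mod_cast Fintype.card_ne_zero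
  unfold omega F
  have h1 : ∀ g : H, (d.ch 1 : H → ℂ) 1 * (Nat.card H : ℂ)⁻¹ *
      (∑ l : Q →* ℂˣ, ((l y : ℂˣ) : ℂ) * (d.ch l : H → ℂ) g⁻¹) * (ψ : H → ℂ) g =
      ∑ l : Q →* ℂˣ, (d.ch 1 : H → ℂ) 1 * ((l y : ℂˣ) : ℂ) *
        ((Nat.card H : ℂ)⁻¹ * ((ψ : H → ℂ) g * conj ((d.ch l : H → ℂ) g))) := by
    intro g
    rw [Finset.mul_sum, Finset.sum_mul]
    refine Finset.sum_congr rfl fun l _ => ?_
    rw [irr_inv]
    ring
  rw [Finset.sum_congr rfl fun g _ => h1 g, Finset.sum_comm, Finset.sum_div]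
  refine Finset.sum_congr rfl fun l _ => ?_
  rw [← Finset.mul_sum, ← Finset.mul_sum]
  have h2 : (Nat.card H : ℂ)⁻¹ * ∑ g : H, (ψ : H → ℂ) g * conj ((d.ch l : H → ℂ) g) =
      classInner (ψ : H → ℂ) (d.ch l : H → ℂ) := by
    unfold classInner; rfl
  rw [h2, classInner_irr]
  by_cases h : d.ch l = ψ
  · rw [if_pos h.symm, if_pos h, mul_one]
    have h3 : (ψ : H → ℂ) 1 = (d.ch 1 : H → ℂ) 1 := by rw [← h, d.deg]
    rw [h3, mul_comm, mul_div_assoc, div_self (irr_one_ne_zero (d.ch 1).2), mul_one]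
  · rw [if_neg (Ne.symm h), if_neg h, mul_zero, zero_div]

theorem omega_F_ch (y : Q) (l : Q →* ℂˣ) :
    omega (d.ch l : H → ℂ) (d.F y) = ((l y : ℂˣ) : ℂ) := by
  classical
  rw [d.omega_F, Finset.sum_eq_single l]
  · rw [if_pos rfl]
  · intro l' _ hl'
    rw [if_neg fun h => hl' (d.inj h)]
  · intro h; exact absurd (Finset.mem_univ l) h

theorem omega_F_of_notMem (y : Q) {ψ : IrrCharacter H} (h : ψ ∉ b) :
    omega (ψ : H → ℂ) (d.F y) = 0 := by
  classical
  rw [d.omega_F]
  refine Finset.sum_eq_zero fun l _ => ?_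
  rw [if_neg fun hl => h ((d.mem ψ).2 ⟨l, hl⟩)]

theorem conv_F (y y' : Q) : conv (d.F y) (d.F y') = d.F (y * y') := by
  refine eq_of_omega_eq (conv_isClassFunction (d.F_class y) (d.F_class y')) (d.F_class _)
    fun ψ => ?_
  rw [omega_conv ψ.2 (d.F_class y)]
  by_cases h : ψ ∈ b
  · obtain ⟨l, rfl⟩ := (d.mem ψ).1 h
    rw [d.omega_F_ch, d.omega_F_ch, d.omega_F_ch, map_mul, Units.val_mul]
  · rw [d.omega_F_of_notMem y h, d.omega_F_of_notMem _ h, zero_mul, d.omega_F_of_notMem _ h]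

theorem F_one : d.F 1 = blockCoeff b := by
  classical
  refine eq_of_omega_eq (d.F_class 1) (blockCoeff_isClassFunction b) fun ψ => ?_
  rw [omega_blockCoeff]
  by_cases h : ψ ∈ b
  · rw [if_pos h]
    obtain ⟨l, rfl⟩ := (d.mem ψ).1 h
    rw [d.omega_F_ch, map_one, Units.val_one]
  · rw [if_neg h, d.omega_F_of_notMem _ h]

theorem sum_omega {L : H → ℂ} (hL : IsClassFunction H L) :
    ∑ l : Q →* ℂˣ, omega (d.ch l : H → ℂ) L = (Fintype.card Q : ℂ) *
      omega (d.ch 1 : H → ℂ) (fun g => if p ∣ orderOf g then 0 else L g) := by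
  unfold omega
  have h1 : ∀ l : Q →* ℂˣ, (∑ g : H, L g * (d.ch l : H → ℂ) g) / (d.ch l : H → ℂ) 1 =
      (∑ g : H, L g * (d.ch l : H → ℂ) g) / (d.ch 1 : H → ℂ) 1 := fun l => by rw [d.deg]
  rw [Finset.sum_congr rfl fun l _ => h1 l, ← Finset.sum_div, Finset.sum_comm, ← mul_div_assoc]
  congr 1
  rw [Finset.mul_sum]
  refine Finset.sum_congr rfl fun g _ => ?_
  rw [← Finset.mul_sum]
  beta_reduce
  by_cases hg : p ∣ orderOf g
  · rw [if_pos hg, d.sing g hg, mul_zero, zero_mul, mul_zero]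
  · rw [if_neg hg, d.reg g hg]; ring

theorem sum_hom_eq_zero {φ : Q →* ℂˣ} (h : φ ≠ 1) : ∑ y : Q, ((φ y : ℂˣ) : ℂ) = 0 := by
  obtain ⟨x, hx⟩ : ∃ x, φ x ≠ 1 := by
    by_contra hcon
    push Not at hcon
    exact h (MonoidHom.ext hcon)
  have h1 : ((φ x : ℂˣ) : ℂ) * ∑ y : Q, ((φ y : ℂˣ) : ℂ) = ∑ y : Q, ((φ y : ℂˣ) : ℂ) := by
    rw [Finset.mul_sum]
    refine Fintype.sum_equiv (Equiv.mulLeft x) _ _ fun y => ?_
    rw [Equiv.coe_mulLeft, map_mul, Units.val_mul]
  have h2 : (((φ x : ℂˣ) : ℂ) - 1) * ∑ y : Q, ((φ y : ℂˣ) : ℂ) = 0 := by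
    rw [sub_mul, h1, one_mul, sub_self]
  rcases mul_eq_zero.1 h2 with h3 | h3
  · exfalso
    apply hx
    apply Units.ext
    rw [Units.val_one]
    exact sub_eq_zero.1 h3
  · exact h3

/-- Expansion of a central element. -/
theorem exists_expansion (hb : IsPBlock M b) {z : MonoidAlgebra (kM M) H} (hz : Fixed ⊤ z)
    (hzb : z * eB M b = z) : ∃ c : Q → kM M, z = ∑ y : Q, c y • redc M (d.F y) := by
  classical
  set L : H → ℂ := lft z with hLdef
  have hL : IsClassFunction H L := cf_lft hz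
  have hLr : RV M L := rv_lft z
  have hq : (Fintype.card Q : ℂ) ≠ 0 := by exact_mod_cast Fintype.card_ne_zero
  let c : Q → ℂ := fun y => omega (d.ch 1 : H → ℂ)
    (fun g => if p ∣ orderOf g then 0 else conv L (d.F y⁻¹) g)
  have hconv : ∀ y, IsClassFunction H (conv L (d.F y)) := fun y =>
    conv_isClassFunction hL (d.F_class y)
  have hord : ∀ g x : H, orderOf (x * g * x⁻¹) = orderOf g := fun g x => by
    have : x * g * x⁻¹ = MulAut.conj x g := by simp
    rw [this, MulEquiv.orderOf_eq]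
  have hcmlr : ∀ y, MemLocalRing M (c y) := by
    intro y
    apply mlr_omega
    · intro g x
      simp only [hord]
      rw [hconv y⁻¹ g x]
    · intro g
      split_ifs
      · exact mlr_zero
      · exact rv_conv hLr (d.F_rv _) g
  have hc : ∀ y, c y = (Fintype.card Q : ℂ)⁻¹ *
      ∑ l : Q →* ℂˣ, omega (d.ch l : H → ℂ) L * ((l y⁻¹ : ℂˣ) : ℂ) := by
    intro y
    have h1 := d.sum_omega (hconv y⁻¹)
    have h2 : ∀ l : Q →* ℂˣ, omega (d.ch l : H → ℂ) (conv L (d.F y⁻¹)) =
        omega (d.ch l : H → ℂ) L * ((l y⁻¹ : ℂˣ) : ℂ) := fun l => by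
      rw [omega_conv (d.ch l).2 hL, d.omega_F_ch]
    rw [Finset.sum_congr rfl fun l _ => h2 l] at h1
    rw [h1, ← mul_assoc, inv_mul_cancel₀ hq, one_mul]
  have hkey : conv L (blockCoeff b) = ∑ y : Q, c y • d.F y := by
    refine eq_of_omega_eq (conv_isClassFunction hL (blockCoeff_isClassFunction b)) ?_
      fun ψ => ?_
    · intro g x
      rw [Finset.sum_apply, Finset.sum_apply]
      exact Finset.sum_congr rfl fun y _ => by
        rw [Pi.smul_apply, Pi.smul_apply, d.F_class y g x]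
    · have hsum : omega (ψ : H → ℂ) (∑ y : Q, c y • d.F y) =
          ∑ y : Q, c y * omega (ψ : H → ℂ) (d.F y) := by
        have : ∀ s : Finset Q, omega (ψ : H → ℂ) (∑ y ∈ s, c y • d.F y) =
            ∑ y ∈ s, c y * omega (ψ : H → ℂ) (d.F y) := by
          intro s
          induction s using Finset.induction_on with
          | empty =>
            rw [Finset.sum_empty, Finset.sum_empty]
            unfold omega
            simp
          | insert a s ha ih => rw [Finset.sum_insert ha, Finset.sum_insert ha, omega_add,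
              omega_smul, ih]
        exact this Finset.univ
      rw [omega_conv ψ.2 hL, omega_blockCoeff, hsum]
      by_cases h : ψ ∈ b
      · rw [if_pos h, mul_one]
        obtain ⟨l, rfl⟩ := (d.mem ψ).1 h
        have h1 : ∀ y : Q, c y * omega (d.ch l : H → ℂ) (d.F y) = (Fintype.card Q : ℂ)⁻¹ *
            ∑ l' : Q →* ℂˣ, omega (d.ch l' : H → ℂ) L * (((l / l') y : ℂˣ) : ℂ) := by
          intro y
          rw [d.omega_F_ch, hc, mul_assoc, Finset.sum_mul]
          congr 1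
          refine Finset.sum_congr rfl fun l' _ => ?_
          rw [MonoidHom.div_apply, div_eq_mul_inv, Units.val_mul, map_inv, mul_assoc,
            mul_comm ((l' y)⁻¹ : ℂˣ).val]
        rw [Finset.sum_congr rfl fun y _ => h1 y, ← Finset.mul_sum, Finset.sum_comm,
          Finset.sum_eq_single l]
        · have h2 : ∀ y : Q, omega (d.ch l : H → ℂ) L * (((l / l) y : ℂˣ) : ℂ) =
              omega (d.ch l : H → ℂ) L := fun y => by
            rw [MonoidHom.div_apply, div_self', Units.val_one, mul_one]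
          rw [Finset.sum_congr rfl fun y _ => h2 y, Finset.sum_const, Finset.card_univ,
            nsmul_eq_mul, ← mul_assoc, inv_mul_cancel₀ hq, one_mul]
        · intro l' _ hl'
          rw [← Finset.mul_sum, sum_hom_eq_zero, mul_zero]
          intro h2
          exact hl' (div_eq_one.1 h2).symm
        · intro h2; exact absurd (Finset.mem_univ l) h2
      · rw [if_neg h, mul_zero]
        symm
        refine Finset.sum_eq_zero fun y _ => ?_
        rw [d.omega_F_of_notMem y h, mul_zero]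
  refine ⟨fun y => rd M (c y), ?_⟩
  have h1 : redc M (conv L (blockCoeff b)) = z := by
    rw [redc_conv hLr (fun g => mlr_blockCoeff hb g), redc_lft]
    exact hzb
  rw [← h1, hkey]
  apply Blk.ga_ext
  intro g
  rw [redc_coeff, Finset.sum_apply, MonoidAlgebra.coeff_sum, Finsupp.finsetSum_apply,
    rd_sum _ _ fun y _ => ?_]
  · refine Finset.sum_congr rfl fun y _ => ?_
    rw [Pi.smul_apply, smul_eq_mul, rd_mul (hcmlr y) (d.F_rv y g), MonoidAlgebra.coeff_smul]
    rfl
  · rw [Pi.smul_apply, smul_eq_mul]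
    exact mlr_mul (hcmlr y) (d.F_rv y g)

include d in
/-- The centre of the block is generated by one nilpotent element. -/
theorem exists_generator (hM : IsPModular p M) (hb : IsPBlock M b) {a : ℕ}
    (hQ : Nat.card Q = p ^ a) {x : Q} (hx : ∀ y : Q, y ∈ Subgroup.zpowers x) :
    ∃ u : MonoidAlgebra (kM M) H, Fixed ⊤ u ∧ IsNilpotent u ∧
      ∀ z, Fixed ⊤ z → z * eB M b = z → ∃ P : Polynomial (kM M),
        z = Polynomial.aeval u P * eB M b := by
  classical
  haveI hcp : CharP (kM M) p := charP_kM hM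
  set κ : MonoidAlgebra (kM M) H := redc M (d.F x) with hκ
  set e : MonoidAlgebra (kM M) H := eB M b with he
  have hee : e * e = e := eB_idem hb
  have hecomm : ∀ y, e * y = y * e := fixed_top_iff.1 (fixed_eB b)
  have hF1 : redc M (d.F 1) = e := by rw [d.F_one]; rfl
  have hmul : ∀ y y', redc M (d.F y) * redc M (d.F y') = redc M (d.F (y * y')) := fun y y' => by
    rw [← redc_conv (d.F_rv y) (d.F_rv y'), d.conv_F]
  have hκe : κ * e = κ := by rw [← hF1, hκ, hmul, mul_one]
  have hpow : ∀ n : ℕ, redc M (d.F (x ^ n)) = κ ^ n * e := by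
    intro n
    induction n with
    | zero => rw [pow_zero, pow_zero, one_mul, hF1]
    | succ n ih => rw [pow_succ, ← hmul, ih, pow_succ, mul_assoc, mul_assoc, ← hκ, hecomm]
  have hκfix : Fixed ⊤ κ := fixed_redc (d.F_class x)
  have hcommκ : Commute κ e := (hecomm κ).symm
  refine ⟨κ - e, hκfix.sub (fixed_eB b), ?_, ?_⟩
  · refine ⟨p ^ a, ?_⟩
    haveI : CharP (MonoidAlgebra (kM M) H) p :=
      charP_of_injective_algebraMap (algebraMap (kM M) (MonoidAlgebra (kM M) H)).injective p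
    rw [sub_pow_char_pow_of_commute p a hcommκ]
    have h1 : κ ^ (p ^ a) * e = e := by
      rw [← hpow, ← hQ, pow_card_eq_one', hF1]
    have h2 : κ ^ (p ^ a) = κ ^ (p ^ a) * e := by
      have hpos : p ^ a ≠ 0 := pow_ne_zero _ hp.out.ne_zero
      obtain ⟨m, hm⟩ := Nat.exists_eq_succ_of_ne_zero hpos
      rw [hm, Nat.succ_eq_add_one, pow_succ, mul_assoc, hκe]
    have h3 : e ^ (p ^ a) = e := by
      have hpos : p ^ a ≠ 0 := pow_ne_zero _ hp.out.ne_zero
      obtain ⟨m, hm⟩ := Nat.exists_eq_succ_of_ne_zero hpos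
      rw [hm, Nat.succ_eq_add_one]
      exact IsIdempotentElem.pow_succ_eq m hee
    rw [h2, h1, h3, sub_self]
  · intro z hz hzb
    obtain ⟨c, hc⟩ := d.exists_expansion hb hz hzb
    have hone : ∀ n : ℕ, κ ^ n * e = (κ - e + 1) ^ n * e := by
      intro n
      induction n with
      | zero => rw [pow_zero, pow_zero]
      | succ n ih =>
        have h1 : (κ - e + 1) * e = κ * e := by
          rw [add_mul, sub_mul, hee, one_mul, sub_add_cancel]
        rw [pow_succ, pow_succ, mul_assoc, mul_assoc, h1, ← mul_assoc, ← mul_assoc,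
          ]
        have h2 : κ ^ n * κ * e = κ ^ n * e * κ := by
          rw [mul_assoc, ← hecomm κ, mul_assoc]
        have h3 : (κ - e + 1) ^ n * κ * e = (κ - e + 1) ^ n * e * κ := by
          rw [mul_assoc, ← hecomm κ, mul_assoc]
        rw [h2, h3, ih]
    have hex : ∀ y : Q, ∃ n : ℕ, y = x ^ n := fun y => by
      obtain ⟨n, hn⟩ := (isOfFinOrder_of_finite x).mem_powers_iff_mem_zpowers.2 (hx y)
      exact ⟨n, hn.symm⟩
    choose n hn using hex
    refine ⟨∑ y : Q, Polynomial.C (c y) * (Polynomial.X + 1) ^ n y, ?_⟩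
    rw [hc, map_sum, Finset.sum_mul]
    refine Finset.sum_congr rfl fun y _ => ?_
    rw [map_mul, map_pow, map_add, map_one, Polynomial.aeval_C, Polynomial.aeval_X, mul_assoc,
      ← hone, ← Algebra.smul_def, ← hpow, ← hn]

end NilDat

end Cfsg.Agent.Cyc
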