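import Cfsg.Agent.Star.Irr
import Cfsg.Agent.BlkF.Abel
import Cfsg.Agent.BlkC.Contrib
import Cfsg.Agent.BlkC.Rank
import Cfsg.Agent.BlkInd.DefectApp
import Cfsg.Agent.Char.BrauerInduction
import Cfsg.Agent.Char.Linear
import Cfsg.Agent.Cyc.NilCenter
import Cfsg.Agent.Star.NilApp

/-!
# Blocks with abelian defect group and trivial inertial quotient
-/

set_option autoImplicit false
set_option linter.unusedSectionVars false
set_option linter.style.haveILetI false

universe u v w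

namespace Cfsg.Agent.Cyc

open scoped ComplexConjugate
open MonoidAlgebra Cfsg Cfsg.Agent.Blk Cfsg.Agent.BlkF Cfsg.Agent.Star Cfsg.Agent.CharBase
  Cfsg.Agent.BlkC

section fusion
variable {k : Type*} [Field k] {G : Type*} [Group G] [Finite G]
variable {p : ℕ} [hp : Fact p.Prime] [CharP k p]

/-- fusion of pairs below an abelian maximal pair is controlled by its stabilizer -/
theorem fusion_of_comm {P : Subgroup G} {e : MonoidAlgebra k G} (he : MMax p P e)
    (hab : ∀ x ∈ P, ∀ y ∈ P, x * y = y * x) {Q : Subgroup G} {f : MonoidAlgebra k G}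
    (hQ : MLe p Q f P e) {g : G} (hg : MLe p (cjS g Q) (cj g f) P e) :
    ∃ y ∈ stab (Subgroup.normalizer (P : Set G)) e,
      ∃ c ∈ Subgroup.centralizer ((cjS g Q : Subgroup G) : Set G), g = c * y := by
  have hPC := le_centralizer_of_comm hab hg.le
  have hPC0 := le_centralizer_of_comm hab hQ.le
  have hp := hg.left_pair he.1
  have hn : MNorm p (cjS g Q) (cj g f) P e :=
    MLe.mnorm hg he.1 (hPC.trans (centralizer_le_normalizer _))
  have hn0 : MNorm p Q f P e := MLe.mnorm hQ he.1 (hPC0.trans (centralizer_le_normalizer Q))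
  have hn' : MNorm p (cjS g Q) (cj g f) (cjS g P) (cj g e) := hn0.cj g
  have hPC' : cjS g P ≤ Subgroup.centralizer ((cjS g Q : Subgroup G) : Set G) := by
    have h1 := map_conj_mono hPC0 g
    rw [map_conj_centralizer] at h1
    exact h1
  obtain ⟨c, hc, hle⟩ := exists_conj_in_centralizer hp hPC hPC' hn hn'
    (isDef_centralizer_of_comm he hab hg)
  have h1 : cjS c (cjS g P) = P := by
    refine Subgroup.eq_of_le_of_card_ge hle.le ?_
    rw [card_map_conj, card_map_conj]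
  have h2 : cj c (cj g e) = e := by
    have h3 := hle
    rw [h1] at h3
    exact h3.eq_of_eq he.1
  rw [cjS_cjS] at h1
  rw [cj_cj] at h2
  exact ⟨c * g, ⟨mem_normalizer_of_cjS_eq h1, h2⟩, c⁻¹, Subgroup.inv_mem _ hc, by group⟩

end fusion

section stable
variable {p : ℕ} [hp : Fact p.Prime] {M : Ideal AlgInt} [hMp : M.IsPrime] {G : Type u} [Group G]
  [Finite G] [CharP (kM M) p] {P : Subgroup G} {e : MonoidAlgebra (kM M) G}

/-- trivial inertial quotient: every function is stable -/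
theorem stableF_of_trivial (he : MMax p P e) (hab : ∀ x ∈ P, ∀ y ∈ P, x * y = y * x)
    (htriv : ∀ x ∈ stab (Subgroup.normalizer (P : Set G)) e,
      x ∈ Subgroup.centralizer (P : Set G)) (η : G → ℂ) : StableF p P e η := by
  intro u g f h1 h2
  rw [zpowers_conj] at h2
  obtain ⟨y, hy, c, hc, hgc⟩ := fusion_of_comm he hab h1 h2
  have hyP := htriv y hy
  have huP : u ∈ P := h1.le (Subgroup.mem_zpowers u)
  have h3 : y * u * y⁻¹ = u := by
    have := Subgroup.mem_centralizer_iff.1 hyP u huP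
    rw [← this]; group
  have h4 : g * u * g⁻¹ ∈ cjS g (Subgroup.zpowers u) :=
    ⟨u, Subgroup.mem_zpowers u, rfl⟩
  have h5 : g * u * g⁻¹ = c * u * c⁻¹ := by
    rw [hgc]
    calc c * y * u * (c * y)⁻¹ = c * (y * u * y⁻¹) * c⁻¹ := by group
      _ = _ := by rw [h3]
  have h6 := Subgroup.mem_centralizer_iff.1 hc _ h4
  have h7 : g * u * g⁻¹ = u := by
    rw [h5] at h6 ⊢
    have h8 : u = c⁻¹ * (c * u * c⁻¹) * c := by group
    have h9 : c * u * c⁻¹ = c⁻¹ * (c * u * c⁻¹ * c) := by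
      rw [h6]; group
    calc c * u * c⁻¹ = c⁻¹ * (c * u * c⁻¹ * c) := h9
      _ = u := by group
  rw [h7]

end stable

section lstar
variable {G : Type u} [Group G] [Fintype G]

/-- extension by zero of a linear character of `P` -/
noncomputable def lext (P : Subgroup G) (l : P →* ℂˣ) (g : G) : ℂ :=
  open Classical in if h : g ∈ P then ((l ⟨g, h⟩ : ℂˣ) : ℂ) else 0

theorem lext_of_mem {P : Subgroup G} (l : P →* ℂˣ) {g : G} (h : g ∈ P) :
    lext P l g = ((l ⟨g, h⟩ : ℂˣ) : ℂ) := dif_pos h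

theorem lext_one {P : Subgroup G} (l : P →* ℂˣ) : lext P l 1 = 1 := by
  rw [lext_of_mem l P.one_mem]
  have : (⟨1, P.one_mem⟩ : P) = 1 := rfl
  rw [this, map_one, Units.val_one]

theorem norm_hom {Q : Type*} [Group Q] [Finite Q] (l : Q →* ℂˣ) (x : Q) :
    conj ((l x : ℂˣ) : ℂ) * ((l x : ℂˣ) : ℂ) = 1 := by
  have h1 : ‖((l x : ℂˣ) : ℂ)‖ = 1 := by
    have h2 : (((l x : ℂˣ) : ℂ)) ^ orderOf x = 1 := by
      rw [← Units.val_pow_eq_pow_val, ← map_pow, pow_orderOf_eq_one, map_one, Units.val_one]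
    exact Complex.norm_eq_one_of_pow_eq_one h2 (orderOf_pos x).ne'
  rw [mul_comm, Complex.mul_conj, Complex.normSq_eq_norm_sq, h1]
  norm_num

theorem conj_lext_mul {P : Subgroup G} (l : P →* ℂˣ) :
    ∀ v ∈ P, conj (lext P l v) * lext P l v = 1 := by
  intro v hv
  rw [lext_of_mem l hv]
  exact norm_hom l _

theorem isGen_lext {P : Subgroup G} (l : P →* ℂˣ) :
    IsGeneralizedCharacter P (fun v : P => lext P l v) := by
  have h1 : (fun v : P => lext P l v) = (((Units.coeHom ℂ).comp l : P →* ℂ) : P → ℂ) := by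
    funext v
    exact lext_of_mem l v.2
  rw [h1]
  haveI := Fintype.ofFinite P
  exact Char.BI.isGeneralizedCharacter_of_isCharacter (Char.isCharacter_of_hom _)

/-- column orthogonality for a finite abelian group -/
theorem sum_dual {Q : Type*} [Group Q] [Finite Q] (hc : ∀ x y : Q, x * y = y * x)
    [Fintype (Q →* ℂˣ)] (x : Q) :
    ∑ l : Q →* ℂˣ, ((l x : ℂˣ) : ℂ) = open Classical in if x = 1 then (Nat.card Q : ℂ) else 0 := by
  classical
  letI : CommGroup Q := { (inferInstance : Group Q) with mul_comm := hc }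
  haveI : NeZero (Nat.card Q) := ⟨Nat.card_pos.ne'⟩
  haveI h1 : HasEnoughRootsOfUnity ℂ (Nat.card Q) := inferInstance
  haveI : HasEnoughRootsOfUnity ℂ (Monoid.exponent Q) :=
    HasEnoughRootsOfUnity.of_dvd ℂ Group.exponent_dvd_nat_card
  split_ifs with h
  · subst h
    simp only [map_one, Units.val_one, Finset.sum_const, nsmul_eq_mul, mul_one]
    rw [Finset.card_univ, ← Nat.card_eq_fintype_card]
    exact_mod_cast CommGroup.card_monoidHom_of_hasEnoughRootsOfUnity Q ℂ
  · obtain ⟨φ, hφ⟩ := CommGroup.exists_apply_ne_one_of_hasEnoughRootsOfUnity Q ℂ h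
    have h2 : ((φ x : ℂˣ) : ℂ) * ∑ l : Q →* ℂˣ, ((l x : ℂˣ) : ℂ) =
        ∑ l : Q →* ℂˣ, ((l x : ℂˣ) : ℂ) := by
      rw [Finset.mul_sum]
      refine Fintype.sum_bijective (fun l => φ * l) (Group.mulLeft_bijective φ) _ _ fun l => ?_
      rw [MonoidHom.mul_apply, Units.val_mul]
    have h3 : (((φ x : ℂˣ) : ℂ) - 1) * ∑ l : Q →* ℂˣ, ((l x : ℂˣ) : ℂ) = 0 := by
      rw [sub_mul, h2, one_mul, sub_self]
    rcases mul_eq_zero.1 h3 with h4 | h4
    · exfalso
      apply hφ
      apply Units.ext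
      rw [Units.val_one]
      exact sub_eq_zero.1 h4
    · exact h4

end lstar

/-- the assumptions: abelian defect group, trivial inertial quotient -/
structure NilSetup {G : Type u} [Group G] [Fintype G] (p : ℕ) [Fact p.Prime] (M : Ideal AlgInt)
    [M.IsPrime] (B : Set (IrrCharacter G)) (P : Subgroup G) (e : MonoidAlgebra (kM M) G) :
    Prop where
  hM : IsPModular p M
  hB : IsPBlock M B
  charp : CharP (kM M) p
  max : MMax p P e
  pair : MPairOf p (eB M B) P e
  comm : ∀ x ∈ P, ∀ y ∈ P, x * y = y * x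
  stable : ∀ η : G → ℂ, StableF p P e η
  card : Nat.card P = p ^ blockDefect p B

namespace NilSetup

variable {G : Type u} [Group G] [Fintype G] {p : ℕ} [hp : Fact p.Prime] {M : Ideal AlgInt}
  [hMp : M.IsPrime] {B : Set (IrrCharacter G)} {P : Subgroup G} {e : MonoidAlgebra (kM M) G}

/-- construction from the trivial action -/
theorem mk' (hM : IsPModular p M) (hB : IsPBlock M B) [CharP (kM M) p] (he : MMax p P e)
    (hb : MPairOf p (eB M B) P e) (hP : IsDefectGroup p M B P)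
    (hab : ∀ x ∈ P, ∀ y ∈ P, x * y = y * x)
    (htriv : ∀ x ∈ stab (Subgroup.normalizer (P : Set G)) e,
      x ∈ Subgroup.centralizer (P : Set G)) : NilSetup p M B P e :=
  ⟨hM, hB, inferInstance, he, hb, hab, stableF_of_trivial he hab htriv,
    BlkInd.card_defectGroup hM hB hP⟩

variable (d : NilSetup p M B P e)
include d

/-- the product `λ * χ` -/
theorem exists_lstar (l : P →* ℂˣ) {χ : IrrCharacter G} (hχ : χ ∈ B) :
    ∃ ψ : IrrCharacter G, ψ ∈ B ∧ wstar p (wt p P e (lext P l)) (χ : G → ℂ) = (ψ : G → ℂ) :=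
  wstar_wt_irr d.hM d.hB d.max d.pair (d.stable _) (isGen_lext l) (lext_one l)
    (conj_lext_mul l) hχ

theorem lstar_mul (l m : P →* ℂˣ) {χ : G → ℂ} (hχ : IsClassFunction G χ) :
    wstar p (wt p P e (lext P l)) (wstar p (wt p P e (lext P m)) χ) =
      wstar p (wt p P e (lext P (l * m))) χ := by
  rw [wstar_wt_mul d.hM d.max (d.stable _) (d.stable _) (isGen_lext m) hχ]
  congr 2
  funext g
  by_cases h : g ∈ P
  · rw [lext_of_mem _ h, lext_of_mem _ h, lext_of_mem _ h, MonoidHom.mul_apply, Units.val_mul]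
  · rw [lext, dif_neg h, lext, dif_neg h, lext, dif_neg h, mul_zero]

theorem lstar_one {χ : IrrCharacter G} (hχ : χ ∈ B) :
    wstar p (wt p P e (lext P 1)) (χ : G → ℂ) = (χ : G → ℂ) := by
  haveI := d.charp
  rw [wstar_congr d.hM d.hB hχ (w' := fun _ _ => (1 : ℂ)), wstar_one (irr_isClassFunction χ)]
  intro v f hf
  obtain ⟨g, hg, h2⟩ := wt_of_pair d.hM d.max d.pair (d.stable _) hf
  rw [h2, lext_of_mem _ (hg.le (Subgroup.mem_zpowers _))]
  rfl

theorem lstar_apply_one (l : P →* ℂˣ) {χ : IrrCharacter G} (hχ : χ ∈ B) :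
    wstar p (wt p P e (lext P l)) (χ : G → ℂ) 1 = (χ : G → ℂ) 1 := by
  rw [wstar_wt_apply_one d.hM d.hB d.max d.pair (d.stable _) hχ, lext_one, one_mul]

/-- agreement on `p`-regular elements -/
theorem lstar_reg (l : P →* ℂˣ) {χ : IrrCharacter G} (hχ : χ ∈ B) {s : G}
    (hs : ¬ p ∣ orderOf s) :
    wstar p (wt p P e (lext P l)) (χ : G → ℂ) s = (χ : G → ℂ) s := by
  haveI := d.charp
  rw [wstar_reg d.hB hχ hs]
  have h1 := lstar_apply_one d l hχ
  rw [wstar_apply_one d.hB hχ] at h1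
  have h2 : wt p P e (lext P l) 1 (eB M B) = 1 :=
    mul_right_cancel₀ (irr_one_ne_zero χ.2) (by rw [h1, one_mul])
  rw [h2, one_mul]

/-- the weights are linear -/
theorem sum_wt {ι : Type*} (s : Finset ι) (c : ι → ℂ) (η : ι → G → ℂ) (v : G)
    (f : MonoidAlgebra (kM M) G) :
    ∑ i ∈ s, c i * wt p P e (η i) v f = wt p P e (fun g => ∑ i ∈ s, c i * η i g) v f := by
  by_cases h : ∃ g : G, MLe p (Subgroup.zpowers (g * v * g⁻¹)) (cj g f) P e
  · obtain ⟨g, hg⟩ := h
    rw [wt_eq (d.stable _) hg]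
    refine Finset.sum_congr rfl fun i _ => ?_
    rw [wt_eq (d.stable _) hg]
  · rw [wt_of_not h]
    refine Finset.sum_eq_zero fun i _ => ?_
    rw [wt_of_not h, mul_zero]

omit d hp in
theorem sum_wstar [Fact p.Prime] {ι : Type*} (s : Finset ι) (c : ι → ℂ)
    (w : ι → G → MonoidAlgebra (kM M) G → ℂ) (χ : G → ℂ) (g : G) :
    ∑ i ∈ s, c i * wstar p (w i) χ g = wstar p (fun v f => ∑ i ∈ s, c i * w i v f) χ g := by
  simp only [wstar, Finset.mul_sum]
  rw [Finset.sum_comm]
  refine Finset.sum_congr rfl fun f _ => ?_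
  rw [Finset.sum_mul]
  refine Finset.sum_congr rfl fun i _ => ?_
  ring

theorem sum_lstar_weight [Fintype (P →* ℂˣ)] (y : P) (χ : G → ℂ) (g : G) :
    ∑ l : P →* ℂˣ, ((l y : ℂˣ) : ℂ) * wstar p (wt p P e (lext P l)) χ g =
      (Nat.card P : ℂ) * wstar p (wt p P e
        (fun g => open Classical in if g = ((y⁻¹ : P) : G) then 1 else 0)) χ g := by
  classical
  rw [sum_wstar]
  have h1 : (fun (v : G) (f : MonoidAlgebra (kM M) G) => ∑ l : P →* ℂˣ,
      ((l y : ℂˣ) : ℂ) * wt p P e (lext P l) v f) =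
      fun v f => ∑ i ∈ ({()} : Finset Unit), (Nat.card P : ℂ) * wt p P e
        (fun g => if g = ((y⁻¹ : P) : G) then 1 else 0) v f := by
    funext v f
    rw [sum_wt d, sum_wt d]
    congr 1
    funext g
    rw [Finset.sum_singleton]
    by_cases hg : g ∈ P
    · have h2 : ∀ l : P →* ℂˣ, ((l y : ℂˣ) : ℂ) * lext P l g =
          ((l (y * ⟨g, hg⟩) : ℂˣ) : ℂ) := by
        intro l
        rw [lext_of_mem l hg, map_mul, Units.val_mul]
      rw [Finset.sum_congr rfl fun l _ => h2 l,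
        sum_dual (fun a b => Subtype.ext (d.comm a a.2 b b.2))]
      have h3 : y * ⟨g, hg⟩ = 1 ↔ g = ((y⁻¹ : P) : G) := by
        rw [mul_eq_one_iff_inv_eq, Subtype.ext_iff, eq_comm]
      by_cases h4 : g = ((y⁻¹ : P) : G)
      · rw [if_pos (h3.2 h4), if_pos h4, mul_one]
      · rw [if_neg (fun h => h4 (h3.1 h)), if_neg h4, mul_zero]
    · have h2 : g ≠ ((y⁻¹ : P) : G) := fun h => hg (by rw [h]; exact (y⁻¹).2)
      rw [if_neg h2, mul_zero]
      refine Finset.sum_eq_zero fun l _ => ?_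
      rw [lext, dif_neg hg, mul_zero]
  rw [h1, ← sum_wstar]
  simp

/-- `Σ λ * χ` vanishes on `p`-singular elements -/
theorem sum_lstar_sing [Fintype (P →* ℂˣ)] (χ : G → ℂ) {g : G} (hg : p ∣ orderOf g) :
    ∑ l : P →* ℂˣ, wstar p (wt p P e (lext P l)) χ g = 0 := by
  classical
  have h1 := d.sum_lstar_weight 1 χ g
  simp only [map_one, Units.val_one, one_mul, inv_one, OneMemClass.coe_one] at h1
  rw [h1]
  have h2 : wstar p (wt p P e (fun g => if g = (1 : G) then 1 else 0)) χ g = 0 := by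
    rw [wstar]
    refine Finset.sum_eq_zero fun f _ => ?_
    have h3 : wt p P e (fun g => if g = (1 : G) then (1 : ℂ) else 0) (pp p g) f = 0 := by
      by_cases h : ∃ x : G, MLe p (Subgroup.zpowers (x * pp p g * x⁻¹)) (cj x f) P e
      · obtain ⟨x, hx⟩ := h
        rw [wt_eq (d.stable _) hx, if_neg]
        intro h4
        have h5 : pp p g = 1 := by
          have : pp p g = x⁻¹ * (x * pp p g * x⁻¹) * x := by group
          rw [this, h4]; group
        obtain ⟨s, hs1, hs2, -, hs4⟩ := isPPart_pp p g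
        rw [h5, one_mul] at hs1
        exact hs4 (by rw [hs1]; exact hg)
      · rw [wt_of_not h]
    rw [h3, zero_mul]
  rw [h2, mul_zero]

theorem sum_lstar_eq [Fintype (P →* ℂˣ)] {χ : IrrCharacter G} (hχ : χ ∈ B) :
    ∑ l : P →* ℂˣ, wstar p (wt p P e (lext P l)) (χ : G → ℂ) =
      (Nat.card P : ℂ) • pRegularPart p (χ : G → ℂ) := by
  classical
  funext g
  rw [Finset.sum_apply, Pi.smul_apply, smul_eq_mul]
  by_cases hg : p ∣ orderOf g
  · rw [d.sum_lstar_sing _ hg, pRegularPart_apply_of_sing hg, mul_zero]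
  · rw [pRegularPart_apply_of_reg hg, Finset.sum_congr rfl fun l _ => d.lstar_reg l hχ hg,
      Finset.sum_const, nsmul_eq_mul, Finset.card_univ]
    have h1 := sum_dual (fun a b : P => Subtype.ext (d.comm a a.2 b b.2)) (1 : P)
    simp only [map_one, Units.val_one, Finset.sum_const, nsmul_eq_mul, mul_one,
      Finset.card_univ, if_true] at h1
    rw [h1]

/-- the degree factor is a local integer -/
theorem mlr_degree {χ : IrrCharacter G} (hχ : χ ∈ B) (h0 : blockHeight p B (χ : G → ℂ) = 0) :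
    MemLocalRing M ((χ : G → ℂ) 1 * (Nat.card G : ℂ)⁻¹ * (Nat.card P : ℂ)) := by
  have h1 := (height_eq_zero_iff hχ).1 h0
  have h2 := defect_add_nuMin (p := p) (B := B) ⟨χ, hχ⟩
  rw [← h1] at h2
  have h3 : (charDegree (χ : G → ℂ)) = p ^ nu p χ * (charDegree (χ : G → ℂ) / p ^ nu p χ) :=
    (Nat.ordProj_mul_ordCompl_eq_self _ p).symm
  have h4 : Nat.card G = p ^ (Nat.card G).factorization p *
      (Nat.card G / p ^ (Nat.card G).factorization p) :=
    (Nat.ordProj_mul_ordCompl_eq_self _ p).symm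
  set m' := charDegree (χ : G → ℂ) / p ^ nu p χ with hm'
  set g' := Nat.card G / p ^ (Nat.card G).factorization p with hg'
  have hg0 : ¬ p ∣ g' := Nat.not_dvd_ordCompl hp.out Nat.card_pos.ne'
  have hg'0 : (g' : ℂ) ≠ 0 := by
    intro h
    have h5 : g' = 0 := by exact_mod_cast h
    exact hg0 (by rw [h5]; exact dvd_zero p)
  have hp0 : (p : ℂ) ≠ 0 := by exact_mod_cast hp.out.ne_zero
  have h5 : (χ : G → ℂ) 1 * (Nat.card G : ℂ)⁻¹ * (Nat.card P : ℂ) = (m' : ℂ) * (g' : ℂ)⁻¹ := by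
    rw [charDegree_spec χ, h3, d.card, h4, ← h2]
    push_cast
    rw [pow_add]
    field_simp
  rw [h5]
  exact mlr_mul (mlr_natCast _) (mlr_natCast_inv d.hM hg0)

omit d hp in
theorem mlr_Tc (χ : IrrCharacter G) {x : MonoidAlgebra ℂ G} (hx : LR M x) :
    MemLocalRing M (Tc (χ : G → ℂ) x) := by
  rw [Tc_eq]
  exact mlr_sum _ _ fun g _ => mlr_mul (hx g) (mlr_irr χ g)

omit d in
theorem mlr_wstar {w : G → MonoidAlgebra (kM M) G → ℂ} (hw : ∀ v f, MemLocalRing M (w v f))
    (χ : IrrCharacter G) (g : G) : MemLocalRing M (wstar p w (χ : G → ℂ) g) := by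
  rw [wstar]
  refine mlr_sum _ _ fun f hf => mlr_mul (hw _ _) (mlr_Tc χ ?_)
  exact lr_mul (lr_single g mlr_one) (isCL_cl (mem_blks.1 hf)).lr

theorem mlr_wt_ite (y : G) (v : G) (f : MonoidAlgebra (kM M) G) :
    MemLocalRing M (wt p P e (fun g => open Classical in if g = y then 1 else 0) v f) := by
  classical
  by_cases h : ∃ x : G, MLe p (Subgroup.zpowers (x * v * x⁻¹)) (cj x f) P e
  · obtain ⟨x, hx⟩ := h
    rw [wt_eq (d.stable _) hx]
    split_ifs
    · exact mlr_one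
    · exact mlr_zero
  · rw [wt_of_not h]; exact mlr_zero

/-- **The nilpotent data** of the block. -/
theorem exists_nilDat (hdef : IsDef p ⊤ (eB M B) P) (hn : MNilp p (eB M B)) [Fintype P]
    [Fintype (P →* ℂˣ)] {χ₀ : IrrCharacter G} (hχ₀ : χ₀ ∈ B) :
    ∃ D : NilDat p M B P, D.ch 1 = χ₀ ∧
      ∀ l, (D.ch l : G → ℂ) = wstar p (wt p P e (lext P l)) (χ₀ : G → ℂ) := by
  classical
  haveI := d.charp
  obtain ⟨hh, -, hcard, -, h5⟩ := nilp_abelian d.hM d.hB d.max d.pair hdef hn d.comm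
  obtain ⟨-, Ψ, hΨB, hΨ, hΨi, hΨs⟩ := h5 χ₀ hχ₀
  have hex := fun l => d.exists_lstar l hχ₀
  choose ch hchB hch using hex
  have hPab : ∀ a b : P, a * b = b * a := fun a b => Subtype.ext (d.comm a a.2 b b.2)
  -- injectivity
  have hinj : Function.Injective ch := by
    intro l l' hll
    have hz : ∀ l : P →* ℂˣ, IsIrrCharacter P (fun v => ((l v : ℂˣ) : ℂ)) := by
      intro l
      exact Char.isIrrCharacter_of_hom ((Units.coeHom ℂ).comp l)
    have hx : ∀ l : P →* ℂˣ, xt P (fun v => ((l v : ℂˣ) : ℂ)) = lext P l := fun l => rfl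
    have h1 : ∀ l : P →* ℂˣ, (Ψ ⟨_, hz l⟩ : G → ℂ) = (ch l : G → ℂ) := by
      intro l
      rw [← hΨ, ← hch]
      rfl
    have h2 : Ψ ⟨_, hz l⟩ = Ψ ⟨_, hz l'⟩ := by
      apply Subtype.ext
      rw [h1, h1, hll]
    have h3 := congrArg Subtype.val (hΨi h2)
    refine MonoidHom.ext fun v => Units.ext ?_
    exact congrFun h3 v
  have hcard2 : Nat.card (P →* ℂˣ) = Nat.card P := by
    have h1 := sum_dual hPab (1 : P)
    simp only [map_one, Units.val_one, Finset.sum_const, nsmul_eq_mul, mul_one,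
      Finset.card_univ, if_true] at h1
    rw [Nat.card_eq_fintype_card]
    exact_mod_cast h1
  have hsurj : ∀ ψ ∈ B, ∃ l, ch l = ψ := by
    let F : (P →* ℂˣ) → B := fun l => ⟨ch l, hchB l⟩
    have hF : Function.Injective F := fun l l' h => hinj (congrArg Subtype.val h)
    haveI : Finite B := Set.toFinite B
    have hb : Function.Bijective F := by
      rw [Nat.bijective_iff_injective_and_card]
      exact ⟨hF, by rw [hcard2, hcard]⟩
    intro ψ hψ
    obtain ⟨l, hl⟩ := hb.2 ⟨ψ, hψ⟩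
    exact ⟨l, congrArg Subtype.val hl⟩
  have h1 : ch 1 = χ₀ := Subtype.ext (by rw [← hch, d.lstar_one hχ₀])
  refine ⟨⟨ch, hinj, ?_, ?_, ?_, ?_, ?_⟩, h1, fun l => (hch l).symm⟩
  · intro ψ
    exact ⟨hsurj ψ, by rintro ⟨l, rfl⟩; exact hchB l⟩
  · intro l
    rw [← hch, ← hch, d.lstar_apply_one l hχ₀, d.lstar_apply_one 1 hχ₀]
  · intro y g
    rw [h1]
    have h2 : ∑ l : P →* ℂˣ, ((l y : ℂˣ) : ℂ) * (ch l : G → ℂ) g =
        ∑ l : P →* ℂˣ, ((l y : ℂˣ) : ℂ) * wstar p (wt p P e (lext P l)) (χ₀ : G → ℂ) g :=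
      Finset.sum_congr rfl fun l _ => by rw [← hch]
    rw [h2, d.sum_lstar_weight, ← mul_assoc]
    exact mlr_mul (d.mlr_degree hχ₀ (hh _ hχ₀)) (mlr_wstar (d.mlr_wt_ite _) _ _)
  · intro g hg
    rw [h1]
    have h2 := congrFun (d.sum_lstar_eq hχ₀) g
    rw [Finset.sum_apply, Pi.smul_apply, smul_eq_mul, pRegularPart_apply_of_reg hg,
      Nat.card_eq_fintype_card] at h2
    rw [← h2]
    exact Finset.sum_congr rfl fun l _ => by rw [← hch]
  · intro g hg
    rw [← d.sum_lstar_sing (χ₀ : G → ℂ) hg]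
    exact Finset.sum_congr rfl fun l _ => by rw [← hch]

end NilSetup

end Cfsg.Agent.Cyc
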