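import Cfsg.Agent.Star.Loc
import Cfsg.Agent.Star.Irr

/-!
# Transport of pairs and of the star construction along group isomorphisms
-/

set_option autoImplicit false
set_option linter.unusedSectionVars false
set_option linter.style.haveILetI false

universe u v w

namespace Cfsg.Agent.Cyc

open MonoidAlgebra Cfsg Cfsg.Agent.Blk Cfsg.Agent.BlkF Cfsg.Agent.Star Cfsg.Agent.CharBase

section tm
variable {k : Type*} [Field k] {G : Type*} [Group G] {G' : Type*} [Group G'] (α : G ≃* G')

/-- transport of elements of the group algebra -/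
noncomputable def tm {k : Type*} [Field k] (α : G ≃* G') (x : MonoidAlgebra k G) :
    MonoidAlgebra k G' := MonoidAlgebra.domCongr k k α x

@[simp] theorem tm_coeff (x : MonoidAlgebra k G) (g : G') :
    (tm α x).coeff g = x.coeff (α.symm g) := MonoidAlgebra.coeff_domCongr _ _ _

theorem tm_single (g : G) (c : k) : tm α (single g c) = single (α g) c :=
  MonoidAlgebra.domCongr_single _ _ _

theorem tm_mul (x y : MonoidAlgebra k G) : tm α (x * y) = tm α x * tm α y :=
  map_mul (MonoidAlgebra.domCongr k k α) x y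

theorem tm_one : tm α (1 : MonoidAlgebra k G) = 1 := map_one (MonoidAlgebra.domCongr k k α)

theorem tm_zero : tm α (0 : MonoidAlgebra k G) = 0 := map_zero (MonoidAlgebra.domCongr k k α)

theorem tm_injective : Function.Injective (tm (k := k) α) :=
  (MonoidAlgebra.domCongr k k α).injective

theorem tm_symm (x : MonoidAlgebra k G') : tm α (tm α.symm x) = x := by
  ext g; simp

theorem symm_tm (x : MonoidAlgebra k G) : tm α.symm (tm α x) = x := by
  ext g; simp

theorem tm_cj (u : G) (x : MonoidAlgebra k G) : tm α (cj u x) = cj (α u) (tm α x) := by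
  rw [cj, cj, tm_mul, tm_mul, tm_single, tm_single, map_inv]

theorem mem_map_iff {Q : Subgroup G} {g : G'} : g ∈ Q.map α.toMonoidHom ↔ α.symm g ∈ Q := by
  constructor
  · rintro ⟨x, hx, rfl⟩
    change α.symm (α x) ∈ Q
    rwa [MulEquiv.symm_apply_apply]
  · intro h
    exact ⟨_, h, by simp⟩

theorem supp_tm {Q : Subgroup G} {x : MonoidAlgebra k G} (h : Supp Q x) :
    Supp (Q.map α.toMonoidHom) (tm α x) := by
  intro g hg
  rw [tm_coeff]
  exact h _ fun h2 => hg ((mem_map_iff α).2 h2)

theorem fixed_tm {Q : Subgroup G} {x : MonoidAlgebra k G} (h : Fixed Q x) :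
    Fixed (Q.map α.toMonoidHom) (tm α x) := by
  rintro _ ⟨u, hu, rfl⟩
  change cj (α u) (tm α x) = _
  rw [← tm_cj, h u hu]

theorem map_symm_map (Q : Subgroup G) :
    (Q.map α.toMonoidHom).map α.symm.toMonoidHom = Q := by
  ext g
  rw [mem_map_iff, mem_map_iff]
  simp

theorem map_map_symm (Q : Subgroup G') :
    (Q.map α.symm.toMonoidHom).map α.toMonoidHom = Q := by
  ext g
  rw [mem_map_iff, mem_map_iff]
  simp

theorem isBlk_tm {H : Subgroup G} {e : MonoidAlgebra k G} (he : IsBlk H e) :
    IsBlk (H.map α.toMonoidHom) (tm α e) where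
  supp := supp_tm α he.supp
  fixed := fixed_tm α he.fixed
  idem := by rw [← tm_mul, he.idem]
  ne_zero := by
    intro h
    apply he.ne_zero
    apply tm_injective α
    rw [h, tm_zero]
  prim := by
    intro f hf1 hf2 hf3
    have h1 : Supp H (tm α.symm f) := by rw [← map_symm_map α H]; exact supp_tm _ hf1
    have h2 : Fixed H (tm α.symm f) := by rw [← map_symm_map α H]; exact fixed_tm _ hf2
    have h3 : tm α.symm f * tm α.symm f = tm α.symm f := by rw [← tm_mul, hf3]
    rcases he.prim _ h1 h2 h3 with h | h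
    · left
      rw [← tm_symm α f, ← tm_mul, h]
    · right
      rw [← tm_symm α f, ← tm_mul, h, tm_zero]

theorem isBlk_tm_iff {H : Subgroup G} {e : MonoidAlgebra k G} :
    IsBlk (H.map α.toMonoidHom) (tm α e) ↔ IsBlk H e := by
  constructor
  · intro h
    have := isBlk_tm α.symm h
    rwa [map_symm_map, symm_tm] at this
  · exact isBlk_tm α

theorem map_centralizer (Q : Subgroup G) :
    (Subgroup.centralizer (Q : Set G)).map α.toMonoidHom =
      Subgroup.centralizer ((Q.map α.toMonoidHom : Subgroup G') : Set G') := by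
  ext g
  rw [mem_map_iff, Subgroup.mem_centralizer_iff, Subgroup.mem_centralizer_iff]
  constructor
  · rintro h _ ⟨x, hx, rfl⟩
    have := congrArg α (h x hx)
    simpa using this
  · intro h x hx
    have := congrArg α.symm (h (α x) ⟨x, hx, rfl⟩)
    simpa using this

theorem map_normalizer (Q : Subgroup G) :
    (Subgroup.normalizer (Q : Set G)).map α.toMonoidHom =
      Subgroup.normalizer ((Q.map α.toMonoidHom : Subgroup G') : Set G') := by
  ext g
  rw [mem_map_iff, Subgroup.mem_normalizer_iff, Subgroup.mem_normalizer_iff]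
  constructor
  · intro h x
    rw [mem_map_iff, mem_map_iff, h]
    simp
  · intro h x
    have := h (α x)
    rw [mem_map_iff, mem_map_iff] at this
    simpa using this

variable [Finite G] [Finite G']

theorem trunc_tm (Q : Subgroup G) (x : MonoidAlgebra k G) :
    trunc (Q.map α.toMonoidHom) (tm α x) = tm α (trunc Q x) := by
  ext g
  rw [tm_coeff]
  by_cases h : g ∈ Q.map α.toMonoidHom
  · rw [trunc_coeff_of_mem _ h, trunc_coeff_of_mem _ ((mem_map_iff α).1 h), tm_coeff]
  · rw [trunc_coeff_of_notMem _ h,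
      trunc_coeff_of_notMem _ (fun h2 => h ((mem_map_iff α).2 h2))]

theorem br_tm (Q : Subgroup G) (x : MonoidAlgebra k G) :
    br (Q.map α.toMonoidHom) (tm α x) = tm α (br Q x) := by
  rw [br, br, ← map_centralizer, trunc_tm]

variable {p : ℕ}

theorem isPGroup_tm {Q : Subgroup G} (h : IsPGroup p Q) : IsPGroup p (Q.map α.toMonoidHom) :=
  h.map _

theorem mpair_tm {Q : Subgroup G} {f : MonoidAlgebra k G} (h : MPair p Q f) :
    MPair p (Q.map α.toMonoidHom) (tm α f) where
  isPGroup := isPGroup_tm α h.isPGroup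
  blk := by rw [← map_centralizer]; exact isBlk_tm α h.blk

theorem mnorm_tm {Q P : Subgroup G} {f e : MonoidAlgebra k G} (h : MNorm p Q f P e) :
    MNorm p (Q.map α.toMonoidHom) (tm α f) (P.map α.toMonoidHom) (tm α e) where
  left := mpair_tm α h.left
  right := mpair_tm α h.right
  le := Subgroup.map_mono h.le
  norm := by rw [← map_normalizer]; exact Subgroup.map_mono h.norm
  fixed := fixed_tm α h.fixed
  brmul := by rw [br_tm, ← tm_mul, h.brmul]

theorem mle_tm {Q P : Subgroup G} {f e : MonoidAlgebra k G} (h : MLe p Q f P e) :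
    MLe p (Q.map α.toMonoidHom) (tm α f) (P.map α.toMonoidHom) (tm α e) := by
  have key : ∀ x : MIdx k G,
      Relation.ReflTransGen (fun a b : MIdx k G => MNorm p a.1 a.2 b.1 b.2) (Q, f) x →
      MLe p (Q.map α.toMonoidHom) (tm α f) (x.1.map α.toMonoidHom) (tm α x.2) := by
    intro x hx
    induction hx with
    | refl => exact Relation.ReflTransGen.refl
    | tail _ h2 ih => exact ih.tail (mnorm_tm α h2)
  exact key (P, e) h

theorem mle_tm_iff {Q P : Subgroup G} {f e : MonoidAlgebra k G} :
    MLe p (Q.map α.toMonoidHom) (tm α f) (P.map α.toMonoidHom) (tm α e) ↔ MLe p Q f P e := by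
  constructor
  · intro h
    have := mle_tm α.symm h
    rwa [map_symm_map, map_symm_map, symm_tm, symm_tm] at this
  · exact mle_tm α

theorem map_zpowers' (v : G) :
    (Subgroup.zpowers v).map α.toMonoidHom = Subgroup.zpowers (α v) := by
  rw [MonoidHom.map_zpowers]; rfl

theorem sum_blks_tm {β : Type*} [AddCommMonoid β] (H : Subgroup G)
    (F : MonoidAlgebra k G' → β) :
    ∑ f ∈ blks k (H.map α.toMonoidHom), F f = ∑ f ∈ blks k H, F (tm α f) := by
  refine (Finset.sum_bij (fun f _ => tm α f) ?_ ?_ ?_ ?_).symm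
  · intro f hf
    exact mem_blks.2 (isBlk_tm α (mem_blks.1 hf))
  · intro f _ f' _ h
    exact tm_injective α h
  · intro f hf
    refine ⟨tm α.symm f, ?_, tm_symm α f⟩
    rw [mem_blks, ← isBlk_tm_iff α, tm_symm]
    exact mem_blks.1 hf
  · intro f _; rfl

end tm

section star
variable {M : Ideal AlgInt} [hMp : M.IsPrime] {G : Type u} [Group G] [Finite G]
  {G' : Type v} [Group G'] [Finite G'] (α : G ≃* G')

theorem lr_tm {x : MonoidAlgebra ℂ G} (h : LR M x) : LR M (tm α x) := fun g => by
  rw [tm_coeff]; exact h _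

theorem red_tm (x : MonoidAlgebra ℂ G) : red M (tm α x) = tm α (red M x) := by
  ext g
  rw [red_coeff, tm_coeff, tm_coeff, red_coeff]

theorem isCL_tm {C : Subgroup G} {f : MonoidAlgebra (kM M) G} {x : MonoidAlgebra ℂ G}
    (h : IsCL M C f x) : IsCL M (C.map α.toMonoidHom) (tm α f) (tm α x) where
  lr := lr_tm α h.lr
  fixed := fixed_tm α h.fixed
  supp := supp_tm α h.supp
  idem := by rw [← tm_mul, h.idem]
  red := by rw [red_tm, h.red]

theorem cl_tm {C : Subgroup G} {f : MonoidAlgebra (kM M) G} (hf : IsBlk C f) :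
    cl M (C.map α.toMonoidHom) (tm α f) = tm α (cl M C f) :=
  (isCL_tm α (isCL_cl hf)).cl_eq

theorem Tc_tm (χ : G' → ℂ) (x : MonoidAlgebra ℂ G) : Tc χ (tm α x) = Tc (fun g => χ (α g)) x := by
  haveI := Fintype.ofFinite G
  haveI := Fintype.ofFinite G'
  rw [Tc_eq, Tc_eq]
  refine (Fintype.sum_equiv α.toEquiv _ _ fun g => ?_).symm
  change x.coeff g * χ (α g) = (tm α x).coeff (α g) * χ (α g)
  rw [tm_coeff, MulEquiv.symm_apply_apply]

variable {p : ℕ} [hp : Fact p.Prime]

theorem pp_map (g : G) : pp p (α g) = α (pp p g) := by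
  apply pp_eq
  obtain ⟨s, h1, h2, ⟨k, hk⟩, h4⟩ := isPPart_pp p g
  have hord : ∀ z : G, orderOf (α z) = orderOf z := fun z =>
    orderOf_injective α.toMonoidHom α.injective z
  refine ⟨α s, ?_, ?_, ⟨k, by rw [hord, hk]⟩, by rw [hord]; exact h4⟩
  · rw [← map_mul, h1]
  · have h2' : pp p g * s = s * pp p g := h2
    change α (pp p g) * α s = α s * α (pp p g)
    rw [← map_mul, ← map_mul, h2']

/-- the star construction is natural -/
theorem wstar_tm (w : G' → MonoidAlgebra (kM M) G' → ℂ) (χ : G' → ℂ) (g : G) :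
    wstar p w χ (α g) = wstar p (fun v f => w (α v) (tm α f)) (fun h => χ (α h)) g := by
  rw [wstar, wstar, pp_map, ← map_zpowers', ← map_centralizer, sum_blks_tm]
  refine Finset.sum_congr rfl fun f hf => ?_
  rw [cl_tm α (mem_blks.1 hf), ← tm_single, ← tm_mul, Tc_tm]

variable {P : Subgroup G} {e : MonoidAlgebra (kM M) G}

theorem stableF_tm {η : G' → ℂ} (h : StableF p (P.map α.toMonoidHom) (tm α e) η) :
    StableF p P e (fun g => η (α g)) := by
  intro u g f h1 h2
  have h3 := mle_tm α h1
  have h4 := mle_tm α h2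
  rw [map_zpowers'] at h3 h4
  rw [tm_cj, map_mul, map_mul, map_inv] at h4
  have := h (α u) (α g) (tm α f) h3 h4
  simpa using this

theorem wt_tm {η : G' → ℂ} (hst : StableF p (P.map α.toMonoidHom) (tm α e) η) (v : G)
    (f : MonoidAlgebra (kM M) G) :
    wt p (P.map α.toMonoidHom) (tm α e) η (α v) (tm α f) = wt p P e (fun g => η (α g)) v f := by
  by_cases h : ∃ g : G, MLe p (Subgroup.zpowers (g * v * g⁻¹)) (cj g f) P e
  · obtain ⟨g, hg⟩ := h
    rw [wt_eq (stableF_tm α hst) hg]
    have h3 := mle_tm α hg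
    rw [map_zpowers', tm_cj, map_mul, map_mul, map_inv] at h3
    rw [wt_eq hst h3, map_mul, map_mul, map_inv]
  · rw [wt_of_not h, wt_of_not]
    rintro ⟨g, hg⟩
    apply h
    refine ⟨α.symm g, ?_⟩
    rw [← mle_tm_iff α, map_zpowers', tm_cj]
    simpa using hg

/-- equivariance of the star product under an isomorphism preserving the pair -/
theorem wstar_wt_tm {P' : Subgroup G'} {e' : MonoidAlgebra (kM M) G'}
    (hP : P.map α.toMonoidHom = P') (he : tm α e = e') {η : G' → ℂ}
    (hst : StableF p P' e' η) (χ : G' → ℂ) (g : G) :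
    wstar p (wt p P' e' η) χ (α g) =
      wstar p (wt p P e (fun h => η (α h))) (fun h => χ (α h)) g := by
  subst hP he
  rw [wstar_tm]
  congr 1
  funext v f
  exact wt_tm α hst v f

end star

end Cfsg.Agent.Cyc
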