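import Cfsg.Agent.Cyc.FixPt
import Cfsg.Agent.CycG.Concl

/-!
# Blocks with cyclic defect groups: the general setup
-/

set_option autoImplicit false
set_option linter.unusedSectionVars false
set_option linter.style.haveILetI false

universe u v w

namespace Cfsg.Agent.Cyc

open Cfsg Cfsg.Agent.Blk Cfsg.Agent.BlkF Cfsg.Agent.Star Cfsg.Agent.CharBase
  Cfsg.Agent.BlkC

variable {G : Type u} [Group G] [Fintype G] {p : ℕ} [hp : Fact p.Prime] {M : Ideal AlgInt}
  [hMp : M.IsPrime]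

/-- the generator of a quotient `T / C` can be chosen in `A` when `T = A C` -/
theorem exists_gen_mem {A T C : Subgroup G} (hn : (C.subgroupOf T).Normal)
    (hcyc : IsCyclic (T ⧸ C.subgroupOf T)) (hCT : C ≤ T) (hAT : A ≤ T)
    (h : ∀ t ∈ T, ∃ a ∈ A, ∃ c ∈ C, t = a * c) :
    ∃ a ∈ A, ∀ t ∈ T, ∃ n : ℤ, ∃ c ∈ C, t = a ^ n * c := by
  obtain ⟨q, hq⟩ := hcyc.exists_generator
  obtain ⟨t0, rfl⟩ := QuotientGroup.mk_surjective q
  obtain ⟨a, ha, c0, hc0, htac⟩ := h t0 t0.2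
  have h1 : ((⟨a, hAT ha⟩ : T) : T ⧸ C.subgroupOf T) = (t0 : T ⧸ C.subgroupOf T) := by
    rw [QuotientGroup.eq, Subgroup.mem_subgroupOf]
    change a⁻¹ * (t0 : G) ∈ C
    rw [htac]
    have : a⁻¹ * (a * c0) = c0 := by group
    rwa [this]
  refine ⟨a, ha, fun t ht => ?_⟩
  obtain ⟨n, hn⟩ := Subgroup.mem_zpowers_iff.1 (hq ((⟨t, ht⟩ : T) : T ⧸ C.subgroupOf T))
  rw [← h1, ← QuotientGroup.mk_zpow, QuotientGroup.eq, Subgroup.mem_subgroupOf] at hn
  refine ⟨n, (a ^ n)⁻¹ * t, hn, by group⟩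

/-- **The cyclic defect data**, with the structure of the block of `C_G(D₁)`. -/
theorem exists_data2 (hM : IsPModular p M) {B : Set (IrrCharacter G)} (hB : IsPBlock M B)
    {D : Subgroup G} (hD : IsCyclic D) {a : ℕ} (ha : 1 ≤ a) (hDa : Nat.card D = p ^ a)
    (hBD : IsDefectGroup p M B D)
    {c : Set (IrrCharacter (Subgroup.centralizer (D : Set G)))}
    (hc : IsInducedBlock M (Subgroup.centralizer (D : Set G)) c B) :
    ∃ (D₁ : Subgroup G) (f : Set (IrrCharacter (Subgroup.centralizer (D₁ : Set G))))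
      (χ₁ : IrrCharacter (Subgroup.centralizer (D₁ : Set G))),
      CycG.CycDat p M D₁ D (Subgroup.centralizer (D₁ : Set G))
        (stab (Subgroup.normalizer (D₁ : Set G)) (EB M _ f)) f B χ₁ ∧
      Nat.card f = Nat.card D ∧
      (Subgroup.centralizer (D₁ : Set G)).relIndex
          (stab (Subgroup.normalizer (D₁ : Set G)) (EB M _ f)) =
        (Subgroup.centralizer (D : Set G)).relIndex
          (stab (Subgroup.normalizer (D : Set G)) (EB M _ c)) ∧
      (Subgroup.centralizer (D : Set G)).relIndex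
          (stab (Subgroup.normalizer (D : Set G)) (EB M _ c)) ≤ blockRank p B ∧
      MLe p D₁ (EB M _ f) D (EB M _ c) ∧
      (∀ [Fintype (Subgroup.centralizer (D₁ : Set G))],
        NilSetup p M f (D.subgroupOf (Subgroup.centralizer (D₁ : Set G)))
          (Blk.res (Subgroup.centralizer (D₁ : Set G)) (EB M _ c)) ∧
        IsDef p ⊤ (eB M f) (D.subgroupOf (Subgroup.centralizer (D₁ : Set G))) ∧
        MNilp p (eB M f)) := by
  classical
  haveI := charP_kM hM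
  have hpp : p.Prime := hp.out
  obtain ⟨hb, he, hdefB⟩ := mmax_of_isInducedBlock hM hB hBD hc
  set e := EB M _ c with hedef
  have hab := comm_of_isCyclic hD
  have hnd := not_dvd_inertial he hab
  have hDp : IsPGroup p D := he.1.isPGroup
  -- the subgroup of order `p`
  obtain ⟨x, hx⟩ : ∃ x : D, orderOf x = p := by
    apply exists_prime_orderOf_dvd_card' p
    rw [hDa]
    exact dvd_pow_self p (by omega)
  set D₁ : Subgroup G := Subgroup.zpowers (x : G) with hD₁def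
  have hD₁D : D₁ ≤ D := by rw [hD₁def, Subgroup.zpowers_le]; exact x.2
  have hD₁ : Nat.card D₁ = p := by rw [hD₁def, Nat.card_zpowers, Subgroup.orderOf_coe, hx]
  have hbot : D₁ ≠ ⊥ := by
    intro h
    rw [h, Subgroup.card_bot] at hD₁
    exact hpp.one_lt.ne hD₁
  obtain ⟨f0, hf0, hle⟩ := exists_mle he.1 D₁ hD₁D
  obtain ⟨f, hf, rfl⟩ := exists_EB hf0.blk
  haveI instC : Fintype (Subgroup.centralizer (D₁ : Set G)) :=
    Fintype.ofFinite (Subgroup.centralizer (D₁ : Set G))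
  obtain ⟨k1, k2, k3⟩ := local_setup he hab hle
  rw [res_EB] at k1 k3
  have hDH : D ≤ (Subgroup.centralizer (D₁ : Set G)) := le_centralizer_of_comm hab hD₁D
  have hnilp : MNilp p (eB M f) := by
    have := (mnilp_res_iff he hab hle).2 fun y hy hyc =>
      mem_centralizer_of_stab hD hDa hD₁D hbot hnd hy hyc
    rwa [res_EB] at this
  obtain ⟨P, hP⟩ : ∃ P : Subgroup (Subgroup.centralizer (D₁ : Set G)), P = D.subgroupOf (Subgroup.centralizer (D₁ : Set G)) := ⟨_, rfl⟩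
  rw [← hP] at k1 k2 k3
  have hPab : ∀ y ∈ P, ∀ z ∈ P, y * z = z * y := fun y hy z hz =>
    Subtype.ext (hab y (Subgroup.mem_subgroupOf.1 (hP.le hy)) z
      (Subgroup.mem_subgroupOf.1 (hP.le hz)))
  have hPdef : IsDefectGroup p M f P := (isDefectGroup_iff hM hf P).2 k3
  have htriv : ∀ y ∈ stab (Subgroup.normalizer (P : Set (Subgroup.centralizer (D₁ : Set G)))) (Blk.res (Subgroup.centralizer (D₁ : Set G)) e),
      y ∈ Subgroup.centralizer (P : Set (Subgroup.centralizer (D₁ : Set G))) := by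
    intro y hy
    rw [hP, mem_centralizer_subgroupOf_iff hDH]
    rw [hP, mem_stab_res_iff hDH (he.1.blk.supp.mono (centralizer_le_of_le hD₁D))] at hy
    exact mem_centralizer_of_stab hD hDa hD₁D hbot hnd hy y.2
  have S : NilSetup p M f P (Blk.res (Subgroup.centralizer (D₁ : Set G)) e) := NilSetup.mk' hM hf k2 k1 hPdef hPab htriv
  obtain ⟨-, hreg, hcardf, hrank, -⟩ := nilp_abelian hM hf k2 k1 k3 hnilp hPab
  have hcardP : Nat.card P = Nat.card D :=
    hP ▸ Nat.card_congr (Subgroup.subgroupOfEquivOfLe hDH).toEquiv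
  obtain ⟨χ₀, hχ₀⟩ := isPBlock_nonempty hf
  haveI : Fintype P := Fintype.ofFinite P
  haveI : Finite (P →* ℂˣ) := by
    letI : CommGroup P := { (inferInstance : Group P) with
      mul_comm := fun y z => Subtype.ext (hPab y y.2 z z.2) }
    haveI : NeZero (Nat.card P) := ⟨Nat.card_pos.ne'⟩
    haveI h1 : HasEnoughRootsOfUnity ℂ (Nat.card P) := inferInstance
    haveI : HasEnoughRootsOfUnity ℂ (Monoid.exponent P) :=
      HasEnoughRootsOfUnity.of_dvd ℂ Group.exponent_dvd_nat_card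
    exact Nat.finite_of_card_ne_zero (by
      rw [CommGroup.card_monoidHom_of_hasEnoughRootsOfUnity P ℂ]; exact Nat.card_pos.ne')
  haveI : Fintype (P →* ℂˣ) := Fintype.ofFinite _
  obtain ⟨d, -, hd⟩ := S.exists_nilDat k3 hnilp hχ₀
  -- corner data
  have hPcyc : IsCyclic P := by
    rw [hP]
    exact isCyclic_of_injective (Subgroup.subgroupOfEquivOfLe hDH).toMonoidHom
      (Subgroup.subgroupOfEquivOfLe hDH).injective
  obtain ⟨y, hy⟩ := hPcyc.exists_generator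
  obtain ⟨u, hu, hun, hZ⟩ := d.exists_generator hM hf (a := a) (by rw [hcardP, hDa]) hy
  obtain ⟨i, hi⟩ := exists_cornerData_block hM hf hrank hu hun hZ
  have hlow := relIndex_le_blockRank_stab hM hB he hb hD hDa hD₁ hf hle hrank hi
  have hidx := relIndex_stab_eq he hD hDa hbot hle hnd
  -- the inertial group
  set T₁ := stab (Subgroup.normalizer (D₁ : Set G)) (EB M (Subgroup.centralizer (D₁ : Set G)) f) with hT₁
  have hmemT : ∀ g, g ∈ T₁ ↔ g ∈ Subgroup.normalizer (D₁ : Set G) ∧ StabilizesBlock (Subgroup.centralizer (D₁ : Set G)) f g := by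
    intro g
    rw [hT₁, mem_stab, stabilizesBlock_iff (M := M) hf]
    constructor
    · rintro ⟨h1, h2⟩; exact ⟨h1, normalizer_le_normalizer_centralizer D₁ h1, h2⟩
    · rintro ⟨h1, -, h2⟩; exact ⟨h1, h2⟩
  have hT₁H : ∀ t ∈ T₁, t ∈ Subgroup.normalizer ((Subgroup.centralizer (D₁ : Set G)) : Set G) := fun t ht =>
    normalizer_le_normalizer_centralizer D₁ ht.1
  have hstab : ∀ t ∈ T₁, ∀ χ ∈ f, CycG.cjI t χ ∈ f := by
    intro t ht χ hχ
    obtain ⟨χ', hχ', h⟩ := ((hmemT t).1 ht).2.2 χ hχ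
    rw [CycG.isConjCharOf_cjI (hT₁H t ht)] at h
    rwa [← h]
  set T := stab (Subgroup.normalizer (D : Set G)) e with hT
  have hTT₁ : T ≤ T₁ := fun g hg =>
    stab_inf_normalizer_le he.1 hle ⟨hg, normalizer_le_of_isCyclic hD hD₁D hg.1⟩
  have hfac : ∀ t ∈ T₁, ∃ s ∈ T, ∃ z ∈ (Subgroup.centralizer (D₁ : Set G)), t = s * z := fun t ht =>
    stab_factor_of_comm he hab hle ht
  have hHT₁ : (Subgroup.centralizer (D₁ : Set G)) ≤ T₁ := centralizer_le_stab (isBlk_EB hf)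
  -- unique fixed points
  have huniq : ∀ s ∈ T, s ∉ (Subgroup.centralizer (D₁ : Set G)) → ∃ χ₁ ∈ f, CycG.cjI s χ₁ = χ₁ ∧
      ∀ χ ∈ f, CycG.cjI s χ = χ → χ = χ₁ := by
    intro s hs hsH
    refine exists_unique_fixed hP rfl S hχ₀ d hd hs.1 hs.2 (hT₁H s (hTT₁ hs))
      (hstab s (hTT₁ hs)) fun z hz hzs => ?_
    by_contra hz1
    apply hsH
    exact centralizer_le_of_le hD₁D
      (centralizes_of_fix hpp hD hDa (stab_le _ _) hnd hs hz hz1 hzs)
  haveI hcyc1 : IsCyclic D₁ := isCyclic_of_prime_card (p := p) hD₁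
  have hcyc := (relIndex_dvd_and_cyclic hpp le_rfl hcyc1 (by rw [hD₁, pow_one])
    (T := T₁) (stab_le _ _) (by rw [hidx]; exact hnd)).2
  obtain ⟨s₀, hs₀, hgen⟩ := exists_gen_mem (normal_centralizer_subgroupOf (stab_le _ _)) hcyc
    hHT₁ hTT₁ hfac
  -- the character fixed by everything
  have hfixall : ∀ χ₁ : IrrCharacter (Subgroup.centralizer (D₁ : Set G)), CycG.cjI s₀ χ₁ = χ₁ → ∀ t ∈ T₁, CycG.cjI t χ₁ = χ₁ := by
    intro χ₁ h1 t ht
    have hs₀N := hT₁H s₀ (hTT₁ hs₀)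
    have hnat : ∀ n : ℕ, CycG.cjI (s₀ ^ n) χ₁ = χ₁ := by
      intro n
      induction n with
      | zero => rw [pow_zero, CycG.cjI_one]
      | succ n ih =>
        rw [pow_succ, CycG.cjI_mul (Subgroup.pow_mem _ hs₀N n) hs₀N, h1, ih]
    obtain ⟨n, z, hz, rfl⟩ := hgen t ht
    obtain ⟨m, hm⟩ : ∃ m : ℕ, s₀ ^ n = s₀ ^ m := by
      have h2 : s₀ ^ n ∈ Subgroup.zpowers s₀ := Subgroup.zpow_mem_zpowers _ _
      rw [← mem_powers_iff_mem_zpowers] at h2
      obtain ⟨m, hm⟩ := h2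
      exact ⟨m, hm.symm⟩
    rw [hm, CycG.cjI_mul (Subgroup.pow_mem _ hs₀N m) (Subgroup.le_normalizer hz),
      CycG.cjI_of_mem hz, hnat]
  have hfree : ∀ χ₁ ∈ f, (∀ t ∈ T₁, CycG.cjI t χ₁ = χ₁) → ∀ χ ∈ f, χ ≠ χ₁ → ∀ t ∈ T₁,
      CycG.cjI t χ = χ → t ∈ (Subgroup.centralizer (D₁ : Set G)) := by
    intro χ₁ hχ₁ hfix χ hχ hne t ht htfix
    by_contra htH
    obtain ⟨s, hs, z, hz, rfl⟩ := hfac t ht
    have hsH : s ∉ (Subgroup.centralizer (D₁ : Set G)) := fun h => htH ((Subgroup.centralizer (D₁ : Set G)).mul_mem h hz)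
    obtain ⟨χ₂, hχ₂, -, huq⟩ := huniq s hs hsH
    have h1 : CycG.cjI s χ = χ := by
      rwa [CycG.cjI_mul (hT₁H s (hTT₁ hs)) (Subgroup.le_normalizer hz),
        CycG.cjI_of_mem hz] at htfix
    exact hne ((huq χ hχ h1).trans (huq χ₁ hχ₁ (hfix s (hTT₁ hs))).symm)
  obtain ⟨χ₁, hχ₁, hfix⟩ : ∃ χ₁ ∈ f, ∀ t ∈ T₁, CycG.cjI t χ₁ = χ₁ := by
    by_cases h : s₀ ∈ (Subgroup.centralizer (D₁ : Set G))
    · exact ⟨χ₀, hχ₀, hfixall χ₀ (CycG.cjI_of_mem h χ₀)⟩
    · obtain ⟨χ₁, h1, h2, -⟩ := huniq s₀ hs₀ h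
      exact ⟨χ₁, h1, hfixall χ₁ h2⟩
  refine ⟨D₁, f, χ₁, ⟨hD₁, hD₁D, hD, hDp, rfl, hmemT, ?_, ?_, hreg, hχ₁, ?_, ?_⟩,
    by rw [hcardf, hcardP], hidx, hlow, hle, ?_⟩
  · rw [isInducedBlock_iff_pair hM (hDp.to_le hD₁D) hf hB]
    exact (hle.pairOf_iff he.1).1 hb
  · rw [← hP]; exact hPdef
  · intro t ht
    rw [CycG.isConjCharOf_cjI (hT₁H t ht)]
    exact (hfix t ht).symm
  · intro χ hχ hne t ht hfx
    rw [CycG.isConjCharOf_cjI (hT₁H t ht)] at hfx
    exact hfree χ₁ hχ₁ hfix χ hχ hne t ht hfx.symm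
  · intro inst
    have hin : inst = instC := Subsingleton.elim _ _
    subst hin
    rw [← hP]
    exact ⟨S, k3, hnilp⟩

/-- **The cyclic defect data.** -/
theorem exists_data (hM : IsPModular p M) {B : Set (IrrCharacter G)} (hB : IsPBlock M B)
    {D : Subgroup G} (hD : IsCyclic D) {a : ℕ} (ha : 1 ≤ a) (hDa : Nat.card D = p ^ a)
    (hBD : IsDefectGroup p M B D)
    {c : Set (IrrCharacter (Subgroup.centralizer (D : Set G)))}
    (hc : IsInducedBlock M (Subgroup.centralizer (D : Set G)) c B) :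
    ∃ (D₁ : Subgroup G) (f : Set (IrrCharacter (Subgroup.centralizer (D₁ : Set G))))
      (χ₁ : IrrCharacter (Subgroup.centralizer (D₁ : Set G))),
      CycG.CycDat p M D₁ D (Subgroup.centralizer (D₁ : Set G))
        (stab (Subgroup.normalizer (D₁ : Set G)) (EB M _ f)) f B χ₁ ∧
      Nat.card f = Nat.card D ∧
      (Subgroup.centralizer (D₁ : Set G)).relIndex
          (stab (Subgroup.normalizer (D₁ : Set G)) (EB M _ f)) =
        (Subgroup.centralizer (D : Set G)).relIndex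
          (stab (Subgroup.normalizer (D : Set G)) (EB M _ c)) ∧
      (Subgroup.centralizer (D : Set G)).relIndex
          (stab (Subgroup.normalizer (D : Set G)) (EB M _ c)) ≤ blockRank p B ∧
      MLe p D₁ (EB M _ f) D (EB M _ c) := by
  obtain ⟨D₁, f, χ₁, h1, h2, h3, h4, h5, -⟩ := exists_data2 hM hB hD ha hDa hBD hc
  exact ⟨D₁, f, χ₁, h1, h2, h3, h4, h5⟩

end Cfsg.Agent.Cyc
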