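import Cfsg.Agent.Cyc.Alpha

/-!
# Averaging over a quotient of order prime to `p`
-/

set_option autoImplicit false
set_option linter.unusedSectionVars false
set_option linter.style.haveILetI false

namespace Cfsg.Agent.Cyc

variable {k : Type*} [Field k] {T : Type*} [Group T] [Fintype T]
variable {V : Type*} [AddCommGroup V] [Module k V] {S : Type*} [AddCommGroup S] [Module k S]
variable {V' : Type*} [AddCommGroup V'] [Module k V']

theorem exists_hom_of_average {C : Subgroup T} [Fintype (T ⧸ C)]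
    (hidx : (Fintype.card (T ⧸ C) : k) ≠ 0)
    {σ : Representation k T V} {σ' : Representation k T V'} {τ : Representation k T S}
    {m : V →ₗ[k] S} {m' : V' →ₗ[k] S} (hm : IsHom σ τ m) (hm' : IsHom σ' τ m')
    (hinj : Function.Injective m) (hn : ¬ IsPr σ τ m) (hn' : ¬ IsPr σ' τ m')
    {F : S →ₗ[k] S} (hF : IsHom τ τ F) (hFm : F ∘ₗ m = m) (hFm' : F ∘ₗ m' = m')
    {h : S →ₗ[k] S} (hh : ∀ c ∈ C, cjh τ τ c h = h) (hFh : F ∘ₗ h ∘ₗ F = h)
    (hhm : ∀ v, h (m v) = m v) (hhm' : ∀ v', ∃ v, h (m' v') = m v)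
    (hEnd : ∀ b : S →ₗ[k] S, IsHom τ τ b → F ∘ₗ b ∘ₗ F = b →
      ∃ (c : k) (φ : S →ₗ[k] S), IsPr τ τ φ ∧ b = c • F + φ) :
    ∃ θ : V' →ₗ[k] V, IsHom σ' σ θ ∧ θ ≠ 0 := by
  classical
  set n : k := (Fintype.card (T ⧸ C) : k) with hnn
  set b : S →ₗ[k] S := n⁻¹ • ∑ q : T ⧸ C, cjh τ τ q.out h with hb
  have hbhom : IsHom τ τ b := by
    intro g
    rw [hb, cjh_smul, isHom_sum_out hh g]
  have hFb : F ∘ₗ b ∘ₗ F = b := by
    rw [hb, LinearMap.smul_comp, LinearMap.comp_smul, lsum_comp, lcomp_sum]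
    congr 1
    refine Finset.sum_congr rfl fun q _ => ?_
    have h1 : cjh τ τ q.out (F ∘ₗ h ∘ₗ F) = F ∘ₗ cjh τ τ q.out h ∘ₗ F := by
      rw [cjh_comp τ τ τ, cjh_comp τ τ τ, hF]
    rw [← h1, hFh]
  have hbm : ∀ v, b (m v) = m v := by
    intro v
    have h1 : ∀ q : T ⧸ C, cjh τ τ q.out h (m v) = m v := by
      intro q
      rw [cjh_apply, ← hm.apply, hhm, hm.apply, rep_apply_inv]
    rw [hb, LinearMap.smul_apply, LinearMap.sum_apply, Finset.sum_congr rfl fun q _ => h1 q,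
      Finset.sum_const, Finset.card_univ, ← Nat.cast_smul_eq_nsmul k, smul_smul,
      inv_mul_cancel₀ hidx, one_smul]
  have hbm' : ∀ v', b (m' v') ∈ LinearMap.range m := by
    intro v'
    rw [hb, LinearMap.smul_apply, LinearMap.sum_apply]
    refine Submodule.smul_mem _ _ (Submodule.sum_mem _ fun q _ => ?_)
    obtain ⟨v, hv⟩ := hhm' (σ' q.out⁻¹ v')
    refine ⟨σ q.out v, ?_⟩
    rw [cjh_apply, ← hm'.apply, hv, hm.apply]
  obtain ⟨c, φ, hφ, hbc⟩ := hEnd b hbhom hFb
  have hc : c = 1 := by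
    by_contra hc1
    have h1 : (1 - c) • m = φ ∘ₗ m := by
      apply LinearMap.ext
      intro v
      have h2 := LinearMap.congr_fun hbc (m v)
      rw [hbm, LinearMap.add_apply, LinearMap.smul_apply] at h2
      have h3 : F (m v) = m v := LinearMap.congr_fun hFm v
      rw [h3] at h2
      rw [LinearMap.smul_apply, sub_smul, one_smul, LinearMap.comp_apply, sub_eq_iff_eq_add,
        add_comm]
      exact h2
    apply hn
    have h4 : m = (1 - c)⁻¹ • (φ ∘ₗ m) := by
      rw [← h1, smul_smul, inv_mul_cancel₀ (sub_ne_zero.2 (Ne.symm hc1)), one_smul]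
    rw [h4]
    exact (IsPr.comp_right hφ hm).smul _
  rw [hc, one_smul] at hbc
  let e := LinearEquiv.ofInjective m hinj
  let θ : V' →ₗ[k] V := (e.symm : LinearMap.range m →ₗ[k] V) ∘ₗ
    (b ∘ₗ m').codRestrict (LinearMap.range m) hbm'
  have hθ : ∀ v', m (θ v') = b (m' v') := by
    intro v'
    have h1 : e (θ v') = ⟨b (m' v'), hbm' v'⟩ := by
      change e (e.symm _) = _
      rw [LinearEquiv.apply_symm_apply]; rfl
    have h2 := congrArg Subtype.val h1
    exact h2
  refine ⟨θ, ?_, ?_⟩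
  · rw [isHom_iff]
    intro t v'
    apply hinj
    rw [hθ, hm'.apply, hbhom.apply, hm.apply, hθ]
  · intro h0
    apply hn'
    have h1 : m' = (-1 : k) • (φ ∘ₗ m') := by
      apply LinearMap.ext
      intro v'
      have h2 := LinearMap.congr_fun hbc (m' v')
      rw [← hθ, h0, LinearMap.zero_apply, map_zero, LinearMap.add_apply] at h2
      have h3 : F (m' v') = m' v' := LinearMap.congr_fun hFm' v'
      rw [h3] at h2
      rw [LinearMap.smul_apply, LinearMap.comp_apply, neg_smul, one_smul]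
      exact eq_neg_of_add_eq_zero_left h2.symm
    rw [h1]
    exact (IsPr.comp_right hφ hm').smul _

end Cfsg.Agent.Cyc
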