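import Cfsg.Agent.Cyc.Uniser
import Cfsg.Agent.Cyc.Simples

/-!
# Blocks with one Brauer character and centre generated by one element
-/

set_option autoImplicit false
set_option linter.unusedSectionVars false
set_option linter.style.haveILetI false

universe u v w

namespace Cfsg.Agent.Cyc

open Cfsg Cfsg.Agent.Blk Cfsg.Agent.BlkC Cfsg.Agent.BlkInd Cfsg.Agent.CharBase Cfsg.Agent.Star

section tr

variable {k : Type*} [Field k] {A : Type*} [Ring A] [Algebra k A] [Module.Finite k A]

theorem lm_mul {c : A} (hc : Prim c) (x y : A) :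
    lm (k := k) hc (x * y) = lm (k := k) hc x * lm (k := k) hc y := by
  apply LinearMap.ext; intro z
  obtain ⟨z, rfl⟩ := Submodule.Quotient.mk_surjective _ z
  rw [Module.End.mul_apply, lm_mk, lm_mk, lm_mk, mul_assoc]

theorem tr_comm {c : A} (hc : Prim c) (x y : A) : tr k hc (x * y) = tr k hc (y * x) := by
  unfold tr
  rw [lm_mul, lm_mul, LinearMap.trace_mul_comm]

theorem lm_smul {c : A} (hc : Prim c) (a : k) (x : A) :
    lm (k := k) hc (a • x) = a • lm (k := k) hc x := by
  apply LinearMap.ext; intro z
  obtain ⟨z, rfl⟩ := Submodule.Quotient.mk_surjective _ z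
  rw [LinearMap.smul_apply, lm_mk, lm_mk, smul_mul_assoc, Submodule.Quotient.mk_smul]

theorem tr_smul {c : A} (hc : Prim c) (a : k) (x : A) : tr k hc (a • x) = a * tr k hc x := by
  unfold tr
  rw [lm_smul, map_smul, smul_eq_mul]

theorem tr_block_mul {c f : A} (hc : Prim c) (hf : ∀ x, f * x = x * f) (hfc : f * c = c) (x : A) :
    tr k hc (f * x) = tr k hc x := by
  unfold tr
  have h1 : lm (k := k) hc f = 1 := by
    apply LinearMap.ext; intro z
    obtain ⟨z, rfl⟩ := Submodule.Quotient.mk_surjective _ z
    rw [lm_mk, Module.End.one_apply, Submodule.Quotient.eq, mem_mx]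
    intro y
    have : c * y * (f * z - z) * c = 0 := by
      have e1 : (f * z - z) * c = 0 := by
        rw [sub_mul, hf, mul_assoc, hfc, sub_self]
      rw [mul_assoc, e1, mul_zero]
    rw [this]
    exact IsNilpotent.zero
  rw [lm_mul, h1, one_mul]

end tr

section ga

variable {k : Type*} [Field k] {H : Type*} [Group H] [Fintype H]

/-- The symmetrizing form. -/
noncomputable def sform (k : Type*) [Field k] (H : Type*) [Group H] :
    MonoidAlgebra k H →ₗ[k] k where
  toFun x := x.coeff 1
  map_add' _ _ := by rw [MonoidAlgebra.coeff_add]; rfl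
  map_smul' _ _ := by rw [MonoidAlgebra.coeff_smul]; rfl

theorem sform_apply (x : MonoidAlgebra k H) : sform k H x = x.coeff 1 := rfl

theorem sform_mul (x y : MonoidAlgebra k H) :
    sform k H (x * y) = ∑ h : H, x.coeff h * y.coeff h⁻¹ := by
  rw [sform_apply, mul_coeff]
  exact Finset.sum_congr rfl fun h _ => by rw [mul_one]

theorem eq_zero_of_sform {z : MonoidAlgebra k H} (h : ∀ x, sform k H (z * x) = 0) : z = 0 := by
  classical
  apply Blk.ga_ext
  intro g
  have h1 := h (MonoidAlgebra.single g⁻¹ 1)
  rw [sform_mul, Finset.sum_eq_single g] at h1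
  · rw [MonoidAlgebra.coeff_single, Finsupp.single_eq_same, mul_one] at h1
    rw [h1]; simp
  · intro b _ hb
    rw [MonoidAlgebra.coeff_single, Finsupp.single_eq_of_ne, mul_zero]
    intro h2; exact hb (inv_injective h2)
  · intro h2; exact absurd (Finset.mem_univ g) h2

theorem fixed_top_iff {z : MonoidAlgebra k H} : Fixed ⊤ z ↔ ∀ x, z * x = x * z := by
  constructor
  · intro h x
    exact mul_comm_of_fixed h (supp_top x)
  · intro h u _
    rw [Blk.cj, ← h, mul_assoc, MonoidAlgebra.single_mul_single, mul_inv_cancel, one_mul,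
      ← MonoidAlgebra.one_def, mul_one]

theorem exists_rep_of_trace (τ : MonoidAlgebra k H →ₗ[k] k) (hτ : ∀ x y, τ (x * y) = τ (y * x)) :
    ∃ z : MonoidAlgebra k H, (∀ x, z * x = x * z) ∧ ∀ x, τ x = sform k H (z * x) := by
  refine ⟨ofFun fun g => τ (MonoidAlgebra.single g⁻¹ 1), ?_, ?_⟩
  · rw [← fixed_top_iff, fixed_iff]
    intro u _ g
    rw [ofFun_coeff, ofFun_coeff]
    have h1 : (MonoidAlgebra.single (u * g * u⁻¹)⁻¹ (1 : k)) =
        MonoidAlgebra.single u 1 * (MonoidAlgebra.single (g⁻¹ * u⁻¹) 1) := by
      rw [MonoidAlgebra.single_mul_single, mul_one]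
      congr 1
      group
    rw [h1, hτ, MonoidAlgebra.single_mul_single, mul_one]
    congr 2
    group
  · intro x
    rw [sform_mul]
    conv_lhs => rw [eq_sum_single x, map_sum]
    rw [← Equiv.sum_comp (Equiv.inv H)]
    refine Finset.sum_congr rfl fun g _ => ?_
    rw [map_smul, smul_eq_mul, ofFun_coeff, Equiv.inv_apply, mul_comm]

end ga

variable {G : Type u} [Group G] [Fintype G] {M : Ideal AlgInt} [hMp : M.IsPrime] {p : ℕ}
  [hp : Fact p.Prime] {B : Set (IrrCharacter G)}

/-- If the block has only one Brauer character, all its primitive idempotents are conjugate. -/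
theorem eqv_of_blockRank_one (hM : IsPModular p M) (hB : IsPBlock M B) (h1 : blockRank p B = 1)
    {i i' : MonoidAlgebra (kM M) G} (hi : Prim i) (hi' : Prim i') (hf : eB M B * i = i)
    (hf' : eB M B * i' = i') : Eqv i i' := by
  classical
  by_contra hne
  haveI hcp : CharP (kM M) p := charP_kM hM
  have hne' : ¬ Eqv i' i := fun h => hne h.symm
  let c : Bool → MonoidAlgebra (kM M) G := fun j => if j = true then i else i'
  have hc : ∀ j, Prim (c j) := fun j => by cases j <;> simp [c, hi, hi']
  have hcf : ∀ j, eB M B * c j = c j := fun j => by cases j <;> simp [c, hf, hf']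
  have hfc : ∀ x, eB M B * x = x * eB M B := fixed_top_iff.1 (fixed_eB B)
  let t : Bool → G → kM M := fun j g => tr (kM M) (hc j) (MonoidAlgebra.single g 1)
  have htr : ∀ j x, tr (kM M) (hc j) x = ∑ g : G, x.coeff g * t j g := by
    intro j x
    conv_lhs => rw [eq_sum_single x, tr_sum]
    exact Finset.sum_congr rfl fun g _ => tr_smul _ _ _
  have hval : ∀ j l, tr (kM M) (hc j) (c l) = if j = l then 1 else 0 := by
    intro j l
    by_cases h : j = l
    · subst h
      rw [if_pos rfl]
      exact tr_self _
    · rw [if_neg h]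
      apply tr_of_not_eqv _ (hc l)
      cases j <;> cases l
      · exact absurd rfl h
      · simpa [c] using hne'
      · simpa [c] using hne
      · exact absurd rfl h
  have hli : LinearIndependent (kM M) t := by
    rw [Fintype.linearIndependent_iff]
    intro a ha l
    have h2 : ∑ j, a j * tr (kM M) (hc j) (c l) = 0 := by
      have h3 : ∀ j, a j * tr (kM M) (hc j) (c l) = ∑ g : G, (c l).coeff g * (a j * t j g) := by
        intro j
        rw [htr, Finset.mul_sum]
        exact Finset.sum_congr rfl fun g _ => by ring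
      rw [Finset.sum_congr rfl fun j _ => h3 j, Finset.sum_comm]
      refine Finset.sum_eq_zero fun g _ => ?_
      rw [← Finset.mul_sum]
      have h4 := congrFun ha g
      rw [Finset.sum_apply] at h4
      simp only [Pi.smul_apply, smul_eq_mul, Pi.zero_apply] at h4
      rw [h4, mul_zero]
    simpa [hval] using h2
  have hcl : ∀ j x g, t j (x * g * x⁻¹) = t j g := by
    intro j x g
    change tr (kM M) (hc j) (MonoidAlgebra.single (x * g * x⁻¹) 1) = _
    have h2 : (MonoidAlgebra.single (x * g * x⁻¹) (1 : kM M)) =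
        MonoidAlgebra.single (x * g) 1 * MonoidAlgebra.single x⁻¹ 1 := by
      rw [MonoidAlgebra.single_mul_single, mul_one]
    rw [h2, tr_comm, MonoidAlgebra.single_mul_single, mul_one, inv_mul_cancel_left]
  have hreg : ∀ j x y, x * y = y * x → (∃ n, orderOf x = p ^ n) → ¬ p ∣ orderOf y →
      t j (x * y) = t j y := by
    rintro j x y hxy ⟨n, hn⟩ -
    let ρ : Representation (kM M) G (MonoidAlgebra (kM M) G ⧸ mx (kM M) (hc j)) :=
      { toFun := fun g => lm (hc j) (MonoidAlgebra.single g 1)
        map_one' := by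
          apply LinearMap.ext; intro z
          obtain ⟨z, rfl⟩ := Submodule.Quotient.mk_surjective _ z
          rw [lm_mk, ← MonoidAlgebra.one_def, one_mul]; rfl
        map_mul' := fun g h => by
          rw [← lm_mul, MonoidAlgebra.single_mul_single, mul_one] }
    exact trace_eq_of_pPart ρ hxy (n := n) (by rw [← hn, pow_orderOf_eq_one])
  have hβ : ∀ j g, ∑ h : G, (eB M B).coeff h * t j (h * g) = t j g := by
    intro j g
    have h2 := tr_block_mul (k := kM M) (hc j) hfc (hcf j) (MonoidAlgebra.single g 1)
    rw [htr] at h2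
    change _ = t j g at h2
    rw [← h2]
    refine Fintype.sum_equiv (Equiv.mulRight g) _ _ fun h => ?_
    rw [Equiv.coe_mulRight, MonoidAlgebra.coeff_mul_single_apply, mul_one, mul_inv_cancel_right]
  have h5 := card_le_blockRank (p := p) hB t hli hcl hreg hβ
  rw [h1, Fintype.card_bool] at h5
  omega

/-- The corner data of a block with one Brauer character and centre `k[u]`. -/
theorem exists_cornerData_block (hM : IsPModular p M) (hB : IsPBlock M B)
    (h1 : blockRank p B = 1) {u : MonoidAlgebra (kM M) G} (hu : Fixed ⊤ u) (hun : IsNilpotent u)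
    (hZ : ∀ z, Fixed ⊤ z → z * eB M B = z → ∃ P : Polynomial (kM M),
      z = Polynomial.aeval u P * eB M B) :
    ∃ i, CornerData (k := kM M) u (eB M B) i := by
  haveI : IsAlgClosed (kM M) := inferInstance
  refine exists_cornerData (sform (kM M) G) (fun τ hτ => exists_rep_of_trace τ hτ)
    (fun z hz => eq_zero_of_sform hz) (fixed_top_iff.1 hu) hun (fixed_top_iff.1 (fixed_eB B))
    (eB_idem hB) (isBlk_eB hB).ne_zero (fun z hz h => hZ z (fixed_top_iff.2 hz) h)
    (fun i i' hi hi' h h' => eqv_of_blockRank_one hM hB h1 hi hi' h h')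

end Cfsg.Agent.Cyc
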