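import Cfsg.Agent.Cyc.Alpha
import Cfsg.Agent.Cyc.Restr

/-!
# Blocks whose basic algebra is generated by a central element

`CornerData u f i`: the central idempotent `f` is a sum of elements factoring through the
idempotent `i`, and `i A i` is generated by the central element `u`.
-/

set_option autoImplicit false
set_option linter.unusedSectionVars false
set_option linter.style.haveILetI false

universe v

namespace Cfsg.Agent.Cyc

open Cfsg.Agent.Blk

variable {k : Type*} [Field k]

/-- The idempotent `i` generates the block `f`, and `i A i = k[u] i`. -/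
structure CornerData {A : Type*} [Ring A] [Algebra k A] (u f i : A) : Prop where
  comm_u : ∀ x, u * x = x * u
  nilp : IsNilpotent u
  comm_f : ∀ x, f * x = x * f
  idem_f : f * f = f
  idem_i : i * i = i
  f_i : f * i = i
  ne_zero : i ≠ 0
  gen : ∃ (n : ℕ) (a b : Fin n → A), (∀ j, a j * i = a j) ∧ (∀ j, i * b j = b j) ∧
    ∑ j, a j * b j = f
  corner : ∀ x, ∃ P : Polynomial k, i * x * i = Polynomial.aeval u P * i

section retraction

variable {H : Type*} [Group H] [Fintype H]
variable {V : Type*} [AddCommGroup V] [Module k V] {S : Type*} [AddCommGroup S] [Module k S]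

theorem act_aeval (τ : Representation k H S) (u : MonoidAlgebra k H) (P : Polynomial k) :
    act τ (Polynomial.aeval u P) = Polynomial.aeval (act τ u : Module.End k S) P := by
  exact (Polynomial.aeval_algHom_apply (τ.asAlgebraHom) u P).symm

theorem act_sum {ι : Type*} (τ : Representation k H S) (s : Finset ι)
    (z : ι → MonoidAlgebra k H) : act τ (∑ i ∈ s, z i) = ∑ i ∈ s, act τ (z i) := map_sum _ _ _

theorem commute_aeval {A : Type*} [Ring A] [Algebra k A] {x u : A} (h : Commute x u)
    (P : Polynomial k) : Commute x (Polynomial.aeval u P) := by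
  induction P using Polynomial.induction_on' with
  | add P Q hP hQ => rw [map_add]; exact hP.add_right hQ
  | monomial n c =>
    rw [Polynomial.aeval_monomial]
    exact (show Commute x (algebraMap k A c) from (Algebra.commutes c x).symm).mul_right
      (h.pow_right n)

/-- The retraction onto the image of `m` on the socle. -/
theorem exists_retraction_corner {u f i : MonoidAlgebra k H} (hc : CornerData (k := k) u f i)
    {σ : Representation k H V} {τ : Representation k H S} (hσf : act σ f = LinearMap.id)
    (hσu : act σ u = 0) {m : V →ₗ[k] S} (hm : IsHom σ τ m)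
    {v₀ : V} (hv₀ : act σ i v₀ = v₀) (hi : ∀ v, ∃ c : k, act σ i v = c • v₀)
    (hmv : m v₀ ≠ 0) :
    ∃ h : S →ₗ[k] S, IsHom τ τ h ∧ act τ f ∘ₗ h ∘ₗ act τ f = h ∧ (∀ v, h (m v) = m v) ∧
      ∀ s, act τ u s = 0 → ∃ v, h s = m v := by
  classical
  obtain ⟨n, a, b, ha, hb, hab⟩ := hc.gen
  set U : Module.End k S := act τ u with hU
  set I : Module.End k S := act τ i with hI
  have hUn : IsNilpotent U := hc.nilp.map (τ.asAlgebraHom)
  have hmul : ∀ x y : MonoidAlgebra k H, (act τ (x * y) : Module.End k S) = act τ x * act τ y :=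
    fun x y => map_mul _ _ _
  have hUc : ∀ x : MonoidAlgebra k H, U * act τ x = act τ x * U := fun x => by
    rw [hU, ← hmul, hc.comm_u, hmul]
  have hII : I * I = I := by rw [hI, ← hmul, hc.idem_i]
  have hmact : ∀ (x : MonoidAlgebra k H) (v : V), m (act σ x v) = act τ x (m v) := fun x v =>
    LinearMap.congr_fun (hm.act x) v
  -- the vector
  set s₀ : S := m v₀ with hs₀
  have hIs₀ : I s₀ = s₀ := by rw [hs₀, hI, ← hmact, hv₀]
  have hUs₀ : U s₀ = 0 := by rw [hs₀, hU, ← hmact, hσu, LinearMap.zero_apply, map_zero]
  let m₀ : k →ₗ[k] S := LinearMap.toSpanSingleton k S s₀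
  have hm₀ : ∀ c, m₀ c = c • s₀ := fun c => rfl
  obtain ⟨N, hN⟩ := hUn
  have hex : ∃ r : ℕ, s₀ ∉ LinearMap.range (U ^ r) := by
    refine ⟨N, ?_⟩
    rw [hN]
    rintro ⟨s, hs⟩
    exact hmv hs.symm
  set r := Nat.find hex with hr
  have hr0 : r ≠ 0 := by
    intro h0
    have := Nat.find_spec hex
    rw [← hr, h0] at this
    exact this ⟨s₀, rfl⟩
  have hr1 : s₀ ∈ LinearMap.range (U ^ (r - 1)) := by
    by_contra hcon
    exact Nat.find_min hex (m := r - 1) (by omega) hcon
  obtain ⟨h₀, hh1, hh2, hh3⟩ := exists_retraction (u := U) (m := m₀) (r := r - 1)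
    (fun c => by rw [hm₀, map_smul, hUs₀, smul_zero])
    (fun c => by
      obtain ⟨s, hs⟩ := hr1
      exact ⟨c • s, by rw [map_smul, hs, hm₀]⟩)
    (fun c hcs => by
      by_contra hc0
      obtain ⟨s, hs⟩ := hcs
      rw [show r - 1 + 1 = r by omega] at hs
      apply Nat.find_spec hex
      exact ⟨c⁻¹ • s, by rw [map_smul, hs, hm₀, smul_smul, inv_mul_cancel₀ hc0, one_smul]⟩)
  let X : Module.End k S := I * (h₀ : Module.End k S) * I
  have hh1' : (h₀ : Module.End k S) * U = U * h₀ := LinearMap.ext hh1
  have hXU : Commute X U := by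
    change I * h₀ * I * U = U * (I * h₀ * I)
    have hIU : I * U = U * I := (hUc i).symm
    rw [mul_assoc, hIU, ← mul_assoc, mul_assoc I, hh1', ← mul_assoc, hIU]
    simp only [mul_assoc]
  have hXI : X * I = X := by change I * h₀ * I * I = I * h₀ * I; rw [mul_assoc, hII]
  have hIX : I * X = X := by
    change I * (I * h₀ * I) = I * h₀ * I
    rw [← mul_assoc, ← mul_assoc, hII]
  -- commutes with the corner
  have hXcorner : ∀ x : MonoidAlgebra k H, X * act τ (i * x * i) = act τ (i * x * i) * X := by
    intro x
    obtain ⟨P, hP⟩ := hc.corner x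
    have h1 : (act τ (i * x * i) : Module.End k S) = Polynomial.aeval U P * I := by
      rw [hP, hmul, act_aeval]
    have h2 := (commute_aeval hXU P).eq
    have h3 : Polynomial.aeval U P * I = I * Polynomial.aeval U P :=
      (commute_aeval (u := U) (x := I) ((hUc i).symm) P).eq.symm
    rw [h1, ← mul_assoc, h2, mul_assoc, hXI, mul_assoc, hIX]
  have hXs₀ : X s₀ = s₀ := by
    change I (h₀ (I s₀)) = s₀
    rw [hIs₀]
    have := hh2 1
    rw [hm₀, one_smul] at this
    rw [this, hIs₀]
  have hXker : ∀ s, U s = 0 → ∃ c : k, X s = c • s₀ := by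
    intro s hs
    have h1 : U (I s) = 0 := by
      have := LinearMap.congr_fun (hUc i) s
      change U (I s) = I (U s) at this
      rw [this, hs, map_zero]
    obtain ⟨c, hc'⟩ := hh3 _ h1
    refine ⟨c, ?_⟩
    change I (h₀ (I s)) = c • s₀
    rw [hc', hm₀, map_smul, hIs₀]
  let h : Module.End k S := ∑ j, act τ (a j) * X * act τ (b j)
  have hh : ∀ s, h s = ∑ j, act τ (a j) (X (act τ (b j) s)) := fun s => by
    change (∑ j, act τ (a j) * X * act τ (b j) : Module.End k S) s = _
    rw [LinearMap.sum_apply]; rfl
  have hfb : ∀ j, b j * f = b j := fun j => by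
    rw [← hc.comm_f, ← hb j, ← mul_assoc, hc.f_i]
  have hfa : ∀ j, f * a j = a j := fun j => by
    rw [hc.comm_f, ← ha j, mul_assoc, ← hc.comm_f, hc.f_i]
  have key : ∀ x : MonoidAlgebra k H, h * act τ x = act τ x * h := by
    intro x
    have e1 : ∀ j, b j * x = ∑ l, (i * (b j * x * a l) * i) * b l := by
      intro j
      have e0 : b j * x = b j * x * f := by
        rw [mul_assoc, ← hc.comm_f x, ← mul_assoc, hfb]
      conv_lhs => rw [e0, ← hab, Finset.mul_sum]
      refine Finset.sum_congr rfl fun l _ => ?_
      have e2 : i * (b j * x * a l) * i = b j * x * a l := by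
        rw [← mul_assoc, ← mul_assoc, hb, mul_assoc _ _ i, ha]
      rw [e2]
      simp only [mul_assoc]
    have e3 : ∀ l, x * a l = ∑ j, a j * (i * (b j * x * a l) * i) := by
      intro l
      have e0 : x * a l = f * (x * a l) := by
        rw [← mul_assoc, hc.comm_f x, mul_assoc, hfa]
      conv_lhs => rw [e0, ← hab, Finset.sum_mul]
      refine Finset.sum_congr rfl fun j _ => ?_
      have e2 : i * (b j * x * a l) * i = b j * x * a l := by
        rw [← mul_assoc, ← mul_assoc, hb, mul_assoc _ _ i, ha]
      rw [e2]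
      simp only [mul_assoc]
    calc h * act τ x = ∑ j, act τ (a j) * X * (act τ (b j) * act τ x) := by
          change (∑ j, act τ (a j) * X * act τ (b j)) * act τ x = _
          rw [Finset.sum_mul]
          exact Finset.sum_congr rfl fun j _ => by simp only [mul_assoc]
      _ = ∑ j, ∑ l, act τ (a j) * X * (act τ (i * (b j * x * a l) * i) * act τ (b l)) := by
          refine Finset.sum_congr rfl fun j _ => ?_
          have e5 : act τ (b j) * act τ x =
              ∑ l, act τ (i * (b j * x * a l) * i) * act τ (b l) := by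
            rw [← hmul]
            conv_lhs => rw [e1 j]
            rw [act_sum]
            exact Finset.sum_congr rfl fun l _ => hmul _ _
          rw [e5, Finset.mul_sum]
      _ = ∑ j, ∑ l, act τ (a j * (i * (b j * x * a l) * i)) * (X * act τ (b l)) := by
          refine Finset.sum_congr rfl fun j _ => Finset.sum_congr rfl fun l _ => ?_
          rw [hmul (a j), mul_assoc, ← mul_assoc X, hXcorner]
          simp only [mul_assoc]
      _ = ∑ l, act τ x * (act τ (a l) * X * act τ (b l)) := by
          rw [Finset.sum_comm]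
          refine Finset.sum_congr rfl fun l _ => ?_
          rw [← Finset.sum_mul, ← act_sum, ← e3 l, hmul]
          simp only [mul_assoc]
      _ = act τ x * h := by rw [← Finset.mul_sum]
  refine ⟨h, ?_, ?_, ?_, ?_⟩
  · rw [isHom_iff]
    intro g s
    have h1 := LinearMap.congr_fun (key (MonoidAlgebra.single g 1)) s
    rw [act_single] at h1
    exact h1
  · have h1 : act τ f ∘ₗ h ∘ₗ act τ f = (act τ f : Module.End k S) * h * act τ f := rfl
    rw [h1]
    change act τ f * (∑ j, act τ (a j) * X * act τ (b j)) * act τ f = _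
    rw [Finset.mul_sum, Finset.sum_mul]
    refine Finset.sum_congr rfl fun j _ => ?_
    rw [← mul_assoc, ← mul_assoc, ← hmul, hfa, mul_assoc _ _ (act τ f), ← hmul, hfb]
  · intro v
    rw [hh]
    have h1 : ∀ j, act τ (a j) (X (act τ (b j) (m v))) = m (act σ (a j * b j) v) := by
      intro j
      have e1 : b j = i * b j := (hb j).symm
      obtain ⟨c, hc'⟩ := hi (act σ (b j) v)
      have e2 : act σ (b j) v = c • v₀ := by
        have : act σ (b j) v = act σ i (act σ (b j) v) := by
          conv_lhs => rw [e1, act_mul]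
          rfl
        rw [this, hc']
      rw [← hmact, e2, map_smul, ← hs₀, map_smul, hXs₀, map_smul, act_mul, LinearMap.comp_apply,
        e2, map_smul, map_smul, hmact]
    rw [Finset.sum_congr rfl fun j _ => h1 j, ← map_sum]
    congr 1
    have h2 : ∑ j, act σ (a j * b j) v = act σ (∑ j, a j * b j) v := by
      rw [act_sum, LinearMap.sum_apply]
    rw [h2, hab, hσf, LinearMap.id_apply]
  · intro s hs
    have h1 : ∀ j, ∃ c : k, X (act τ (b j) s) = c • s₀ := by
      intro j
      apply hXker
      have := LinearMap.congr_fun (hUc (b j)) s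
      change U (act τ (b j) s) = act τ (b j) (U s) at this
      rw [this, hs, map_zero]
    choose c hc' using h1
    refine ⟨∑ j, c j • act σ (a j) v₀, ?_⟩
    rw [hh, map_sum]
    refine Finset.sum_congr rfl fun j _ => ?_
    rw [hc', map_smul, map_smul, hmact]

end retraction

end Cfsg.Agent.Cyc
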