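import Cfsg.Agent.Cyc.Lower2
import Cfsg.Agent.Star.LocCyc
import Cfsg.Agent.CycG.PrimeInst

/-!
# Local setup for a block with cyclic defect group
-/

set_option autoImplicit false
set_option linter.unusedSectionVars false
set_option linter.style.haveILetI false

universe u v w

namespace Cfsg.Agent.Cyc

open Cfsg Cfsg.Agent.Blk Cfsg.Agent.BlkF

section ti
variable {k : Type*} [Field k] {G : Type*} [Group G] [Fintype G]

/-- the cyclic subgroup `D` is a trivial intersection set modulo the normalizer of its subgroup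
of order `p` -/
theorem ti_cyclic {p : ℕ} (hp : p.Prime) {D₁ D : Subgroup G} (hD : IsCyclic D)
    (hDp : IsPGroup p D) (hD₁D : D₁ ≤ D) (hD₁ : Nat.card D₁ = p)
    {f : MonoidAlgebra k G} (hf : IsBlk (Subgroup.centralizer (D₁ : Set G)) f) (g : G)
    (hg : g ∉ stab (Subgroup.normalizer (D₁ : Set G)) f) :
    f * cj g f = 0 ∨ ∀ t ∈ stab (Subgroup.normalizer (D₁ : Set G)) f,
      ∀ x ∈ stab (Subgroup.normalizer (D₁ : Set G)) f, g⁻¹ * x * g ∈ D → t⁻¹ * x * t ∈ D →
      x = 1 := by
  by_cases hgN : g ∈ Subgroup.normalizer (D₁ : Set G)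
  · left
    have h1 : IsBlk (Subgroup.centralizer (D₁ : Set G)) (cj g f) :=
      hf.cj_of_mem_normalizer (normalizer_le_normalizer_centralizer D₁ hgN)
    refine hf.mul_eq_zero_of_ne h1 fun h => hg ⟨hgN, h.symm⟩
  · right
    intro t ht x _ hgx htx
    by_contra hx1
    apply hgN
    have conj_ne : ∀ y : G, y⁻¹ * x * y ≠ 1 := by
      intro y h
      apply hx1
      have h2 : x = y * (y⁻¹ * x * y) * y⁻¹ := by group
      rw [h2, h]; group
    have key : ∀ y : G, y⁻¹ * x * y ∈ D →
        D₁.map (MulAut.conj y).toMonoidHom ≤ Subgroup.zpowers x := by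
      intro y hy
      have h1 := CycG.le_zpowers_of_mem hp hD hDp hD₁D hD₁ hy (conj_ne y)
      have h2 := Subgroup.map_mono (f := (MulAut.conj y).toMonoidHom) h1
      rw [CycG.map_conj_zpowers] at h2
      have h3 : y * (y⁻¹ * x * y) * y⁻¹ = x := by group
      rwa [h3] at h2
    have h1 := key g hgx
    have h2 := key t htx
    rw [CycG.mem_normalizer_iff_map.1 ht.1] at h2
    rw [CycG.mem_normalizer_iff_map]
    have hc : IsCyclic (Subgroup.zpowers x) := inferInstance
    exact CycG.eq_of_le_cyclic hc h1 h2 (by rw [Blk.card_map_conj])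

end ti

section loc
variable {k : Type*} [Field k] {G : Type*} [Group G] [Finite G]
variable {p : ℕ} [hp : Fact p.Prime] [CharP k p]

/-- an element of the inertial group centralizing a nontrivial subgroup of `D` centralizes `D` -/
theorem mem_centralizer_of_stab {a : ℕ} {D : Subgroup G} {e : MonoidAlgebra k G}
    (hD : IsCyclic D) (hDa : Nat.card D = p ^ a)
    {D₁ : Subgroup G} (h1 : D₁ ≤ D) (hb : D₁ ≠ ⊥)
    (hnd : ¬ p ∣ (Subgroup.centralizer (D : Set G)).relIndex
      (stab (Subgroup.normalizer (D : Set G)) e))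
    {x : G} (hx : x ∈ stab (Subgroup.normalizer (D : Set G)) e)
    (hxc : x ∈ Subgroup.centralizer (D₁ : Set G)) : x ∈ Subgroup.centralizer (D : Set G) := by
  obtain ⟨⟨y, hy⟩, hy1⟩ := (Subgroup.ne_bot_iff_exists_ne_one (H := D₁)).1 hb
  refine Star.centralizes_of_fix hp.out hD hDa (stab_le _ _) hnd hx (h1 hy)
    (fun h0 => hy1 (Subtype.ext h0)) ?_
  have := Subgroup.mem_centralizer_iff.1 hxc y hy
  rw [← this]; group

/-- the inertial index can be computed in the normalizer of a nontrivial subgroup -/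
theorem relIndex_stab_eq {a : ℕ} {D : Subgroup G} {e : MonoidAlgebra k G}
    (he : MMax p D e) (hD : IsCyclic D) (hDa : Nat.card D = p ^ a)
    {D₁ : Subgroup G} (hb : D₁ ≠ ⊥) {f : MonoidAlgebra k G} (hle : MLe p D₁ f D e)
    (hnd : ¬ p ∣ (Subgroup.centralizer (D : Set G)).relIndex
      (stab (Subgroup.normalizer (D : Set G)) e)) :
    (Subgroup.centralizer (D₁ : Set G)).relIndex (stab (Subgroup.normalizer (D₁ : Set G)) f) =
    (Subgroup.centralizer (D : Set G)).relIndex (stab (Subgroup.normalizer (D : Set G)) e) := by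
  have hab := Star.comm_of_isCyclic hD
  have h1 : stab (Subgroup.normalizer (D : Set G)) e ≤
      stab (Subgroup.normalizer (D₁ : Set G)) f := fun g hg =>
    stab_inf_normalizer_le he.1 hle ⟨hg, Star.normalizer_le_of_isCyclic hD hle.le hg.1⟩
  rw [relIndex_eq_of_mul h1 fun t ht => stab_factor_of_comm he hab hle ht]
  refine Star.relIndex_congr fun g hg => ?_
  constructor
  · intro h
    exact mem_centralizer_of_stab hD hDa hle.le hb hnd hg h
  · intro h
    exact centralizer_le_of_le hle.le h

end loc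

section main
variable {G : Type u} [Group G] [Fintype G] {M : Ideal AlgInt} [hMp : M.IsPrime] {p : ℕ}
  [hp : Fact p.Prime] {B : Set (IrrCharacter G)}

/-- **The general lower bound**, from the corner data of the block of `C_G(D₁)`. -/
theorem relIndex_le_blockRank_stab (hM : IsPModular p M) (hB : IsPBlock M B) {a : ℕ}
    {D : Subgroup G} {e : MonoidAlgebra (kM M) G} (he : MMax p D e) (hbe : MPairOf p (eB M B) D e)
    (hD : IsCyclic D) (hDa : Nat.card D = p ^ a)
    {D₁ : Subgroup G} (hD₁ : Nat.card D₁ = p)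
    {b : Set (IrrCharacter (Subgroup.centralizer (D₁ : Set G)))} (hb : IsPBlock M b)
    (hle : MLe p D₁ (EB M _ b) D e) (hrank : blockRank p b = 1)
    [Fintype (Subgroup.centralizer (D₁ : Set G))]
    {u i : MonoidAlgebra (kM M) (Subgroup.centralizer (D₁ : Set G))}
    (hcd : CornerData (k := kM M) u (eB M b) i) :
    (Subgroup.centralizer (D : Set G)).relIndex (stab (Subgroup.normalizer (D : Set G)) e) ≤
      blockRank p B := by
  haveI := charP_kM hM
  have hab := Star.comm_of_isCyclic hD
  have hnd := Star.not_dvd_inertial he hab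
  have hb1 : D₁ ≠ ⊥ := by
    intro h
    rw [h, Subgroup.card_bot] at hD₁
    exact hp.out.one_lt.ne hD₁
  have hDp : IsPGroup p D := he.1.isPGroup
  have hidx := relIndex_stab_eq he hD hDa hb1 hle hnd
  haveI hcyc1 : IsCyclic D₁ := isCyclic_of_prime_card (p := p) hD₁
  have hcyc := (relIndex_dvd_and_cyclic hp.out le_rfl hcyc1 (by rw [hD₁, pow_one])
    (stab_le _ _) (by rw [hidx]; exact hnd)).2
  have hpair : br D₁ (eB M B) * EB M _ b = EB M _ b := ((hle.pairOf_iff he.1).1 hbe).2.2
  rw [← hidx]
  exact relIndex_le_blockRank_gen hM hB hD₁ hle.le rfl (centralizer_le_stab (isBlk_EB hb))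
    ((stab_le _ _).trans (normalizer_le_normalizer_centralizer D₁))
    (normal_centralizer_subgroupOf (stab_le _ _)) hcyc hb hrank (fixed_stab _ _)
    (isDef_centralizer_of_comm he hab hle) hpair (by rw [hidx]; exact hnd)
    (ti_cyclic hp.out hD hDp hle.le hD₁ (isBlk_EB hb)) hcd

end main

end Cfsg.Agent.Cyc
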