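import Cfsg.Agent.Cyc.Transport
import Cfsg.Agent.Cyc.NilAb
import Cfsg.Agent.Cyc.LocSetup

/-!
# The fixed point of the inertial group on the block of `C_G(D₁)`
-/

set_option autoImplicit false
set_option linter.unusedSectionVars false
set_option linter.style.haveILetI false

universe u v w

namespace Cfsg.Agent.Cyc

open scoped ComplexConjugate
open MonoidAlgebra Cfsg Cfsg.Agent.Blk Cfsg.Agent.BlkF Cfsg.Agent.Star Cfsg.Agent.CharBase
  Cfsg.Agent.BlkC

section alg
variable {k : Type*} [Field k] {G : Type u} [Group G] [Fintype G] {H : Subgroup G}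

theorem tm_normConj {g : G} (hg : g ∈ Subgroup.normalizer (H : Set G)) {e : MonoidAlgebra k G}
    (he : Blk.cj g e = e) : tm (normConj H hg) (Blk.res H e) = Blk.res H e := by
  ext h
  rw [tm_coeff]
  obtain ⟨h', rfl⟩ := (normConj H hg).surjective h
  rw [MulEquiv.symm_apply_apply]
  change e.coeff (h' : G) = e.coeff (((normConj H hg h' : H) : G))
  have h1 : ((normConj H hg h' : H) : G) = g * h' * g⁻¹ := rfl
  nth_rewrite 2 [← he]
  rw [Blk.cj_coeff, h1]
  congr 1
  group

theorem map_normConj_subgroupOf {D : Subgroup G} {g : G}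
    (hg : g ∈ Subgroup.normalizer (H : Set G)) (hD : g ∈ Subgroup.normalizer (D : Set G)) :
    (D.subgroupOf H).map (normConj H hg).toMonoidHom = D.subgroupOf H := by
  ext h
  obtain ⟨h', rfl⟩ := (normConj H hg).surjective h
  rw [mem_map_iff, MulEquiv.symm_apply_apply, Subgroup.mem_subgroupOf, Subgroup.mem_subgroupOf]
  exact Subgroup.mem_normalizer_iff.1 hD h'

end alg

section hom
variable {Q : Type*} [Group Q] [Finite Q]

/-- a fixed point free automorphism of an abelian group acts fixed point freely on the dual -/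
theorem dual_injective (hc : ∀ x y : Q, x * y = y * x) (α : Q ≃* Q)
    (hfpf : ∀ x, α x = x → x = 1) :
    Function.Injective (fun l : Q →* ℂˣ => l.comp α.toMonoidHom * l⁻¹) := by
  intro l l' h
  have h' : l.comp α.toMonoidHom * l⁻¹ = l'.comp α.toMonoidHom * l'⁻¹ := h
  have hδ : Function.Injective (fun x : Q => α x * x⁻¹) := by
    intro x y hxy
    have hxy' : α x * x⁻¹ = α y * y⁻¹ := hxy
    have h1 : α (y⁻¹ * x) = y⁻¹ * x := by
      rw [map_mul, map_inv]
      calc (α y)⁻¹ * α x = (α y)⁻¹ * (α x * x⁻¹) * x := by group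
        _ = (α y)⁻¹ * (α y * y⁻¹) * x := by rw [hxy']
        _ = y⁻¹ * x := by group
    have h2 := hfpf _ h1
    exact (inv_mul_eq_one.1 h2).symm
  have hs := Finite.surjective_of_injective hδ
  refine MonoidHom.ext fun y => ?_
  obtain ⟨x, hx⟩ := hs y
  have hx' : α x * x⁻¹ = y := hx
  have h1 := DFunLike.congr_fun h' x
  have h2 : l (α x) * (l x)⁻¹ = l' (α x) * (l' x)⁻¹ := h1
  rw [← hx', map_mul, map_mul, map_inv, map_inv]
  exact h2

end hom

section fix
variable {G : Type u} [Group G] [Fintype G] {p : ℕ} [hp : Fact p.Prime] {M : Ideal AlgInt}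
  [hMp : M.IsPrime] {H : Subgroup G} [Fintype H] {f : Set (IrrCharacter H)} {D : Subgroup G}
  {e : MonoidAlgebra (kM M) G}

/-- **Unique fixed point** of an element acting fixed point freely on `D`. -/
theorem exists_unique_fixed {P : Subgroup H} (hP : P = D.subgroupOf H)
    {e' : MonoidAlgebra (kM M) H} (he' : e' = Blk.res H e) (S : NilSetup p M f P e')
    [Fintype P] [Fintype (P →* ℂˣ)]
    {χ₀ : IrrCharacter H} (hχ₀ : χ₀ ∈ f)
    (d : NilDat p M f P)
    (hd : ∀ l, (d.ch l : H → ℂ) = wstar p (wt p P e' (lext P l)) (χ₀ : H → ℂ))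
    {t : G} (htD : t ∈ Subgroup.normalizer (D : Set G)) (hte : Blk.cj t e = e)
    (htH : t ∈ Subgroup.normalizer (H : Set G)) (hstab : ∀ χ ∈ f, CycG.cjI t χ ∈ f)
    (hfpf : ∀ x ∈ D, t * x * t⁻¹ = x → x = 1) :
    ∃ χ₁ ∈ f, CycG.cjI t χ₁ = χ₁ ∧ ∀ χ ∈ f, CycG.cjI t χ = χ → χ = χ₁ := by
  classical
  set α := normConj H htH with hα
  have hαP : P.map α.toMonoidHom = P := by rw [hP]; exact map_normConj_subgroupOf htH htD
  have hαe : tm α e' = e' := by rw [he']; exact tm_normConj htH hte
  have hmem : ∀ h : H, α h ∈ P ↔ h ∈ P := by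
    intro h
    rw [hP, Subgroup.mem_subgroupOf, Subgroup.mem_subgroupOf]
    exact (Subgroup.mem_normalizer_iff.1 htD h).symm
  -- the automorphism of `P`
  let αP : P ≃* P :=
    { toFun := fun x => ⟨α x, (hmem x).2 x.2⟩
      invFun := fun x => ⟨α.symm x, by
        rw [← hmem, MulEquiv.apply_symm_apply]; exact x.2⟩
      left_inv := fun x => Subtype.ext (by simp)
      right_inv := fun x => Subtype.ext (by simp)
      map_mul' := fun x y => Subtype.ext (by simp) }
  have hαPv : ∀ x : P, ((αP x : P) : H) = α x := fun x => rfl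
  have hcomm : ∀ x y : P, x * y = y * x := fun x y => Subtype.ext (S.comm x x.2 y y.2)
  have hfpf' : ∀ x : P, αP x = x → x = 1 := by
    intro x hx
    have h1 : t * ((x : H) : G) * t⁻¹ = ((x : H) : G) :=
      congrArg (fun z : P => ((z : H) : G)) hx
    have h2 := hfpf _ (Subgroup.mem_subgroupOf.1 (hP.le x.2)) h1
    exact Subtype.ext (Subtype.ext h2)
  have hlext : ∀ (l : P →* ℂˣ), (fun h : H => lext P l (α h)) =
      lext P (l.comp αP.toMonoidHom) := by
    intro l
    funext h
    by_cases hh : h ∈ P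
    · rw [lext_of_mem _ ((hmem h).2 hh), lext_of_mem _ hh]
      rfl
    · rw [lext, dif_neg (fun h2 => hh ((hmem h).1 h2)), lext, dif_neg hh]
  obtain ⟨μ, hμ⟩ := (d.mem _).1 (hstab χ₀ hχ₀)
  have hcomp : (fun h : H => (CycG.cjI t χ₀ : H → ℂ) (α h)) = (χ₀ : H → ℂ) := by
    funext h
    exact CycG.cjI_apply htH χ₀ h (α h) rfl
  have key : ∀ l : P →* ℂˣ, CycG.cjI t (d.ch (l.comp αP.toMonoidHom)) = d.ch (l * μ) := by
    intro l
    apply Subtype.ext
    funext g'
    obtain ⟨g, rfl⟩ := α.surjective g'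
    rw [CycG.cjI_apply htH _ g (α g) rfl]
    calc (d.ch (l.comp αP.toMonoidHom) : H → ℂ) g
        = wstar p (wt p P e' (lext P (l.comp αP.toMonoidHom))) (χ₀ : H → ℂ) g :=
          congrFun (hd _) g
      _ = wstar p (wt p P e' (fun h => lext P l (α h)))
          (fun h : H => (CycG.cjI t χ₀ : H → ℂ) (α h)) g := by rw [hlext, hcomp]
      _ = wstar p (wt p P e' (lext P l)) (CycG.cjI t χ₀ : H → ℂ) (α g) :=
          (wstar_wt_tm α hαP hαe (S.stable _) _ g).symm
      _ = wstar p (wt p P e' (lext P l))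
          (wstar p (wt p P e' (lext P μ)) (χ₀ : H → ℂ)) (α g) := by rw [← hμ, hd μ]
      _ = (d.ch (l * μ) : H → ℂ) (α g) := by
          rw [S.lstar_mul l μ (irr_isClassFunction χ₀), hd]
  have hinj := dual_injective hcomm αP hfpf'
  obtain ⟨l, hl⟩ := Finite.surjective_of_injective hinj μ
  have hl' : l.comp αP.toMonoidHom * l⁻¹ = μ := hl
  refine ⟨d.ch (l.comp αP.toMonoidHom), (d.mem _).2 ⟨_, rfl⟩, ?_, ?_⟩
  · rw [key]
    congr 1
    rw [← hl']
    refine MonoidHom.ext fun x => ?_
    change l x * (l (αP x) * (l x)⁻¹) = l (αP x)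
    rw [mul_comm (l (αP x)), mul_inv_cancel_left]
  · intro χ hχ hfix
    obtain ⟨m, rfl⟩ := (d.mem _).1 hχ
    set l' : P →* ℂˣ := m.comp αP.symm.toMonoidHom with hl'd
    have hm : m = l'.comp αP.toMonoidHom := by
      refine MonoidHom.ext fun x => ?_
      change m x = m (αP.symm (αP x))
      rw [MulEquiv.symm_apply_apply]
    rw [hm, key] at hfix
    have h1 := d.inj hfix
    have h2 : l'.comp αP.toMonoidHom * l'⁻¹ = μ := by
      rw [← h1]
      refine MonoidHom.ext fun x => ?_
      change l' x * μ x * (l' x)⁻¹ = μ x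
      rw [mul_comm (l' x), mul_inv_cancel_right]
    have h3 : l' = l := hinj (h2.trans hl'.symm)
    rw [hm, h3]

end fix

end Cfsg.Agent.Cyc
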