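import Cfsg.Agent.Cyc.Lower
import Cfsg.Agent.Cyc.Average
import Cfsg.Agent.Cyc.BlockCorner

/-!
# The inertial index is a lower bound for the rank of the block: general cyclic defect groups
-/

set_option autoImplicit false
set_option linter.unusedSectionVars false
set_option linter.style.haveILetI false

universe u v w

namespace Cfsg.Agent.Cyc

open Cfsg Cfsg.Agent.Blk Cfsg.Agent.BlkF

section irr

variable {k : Type*} [Field k] [IsAlgClosed k] {H : Type*} [Group H] [Fintype H]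
variable {V : Type*} [AddCommGroup V] [Module k V] [FiniteDimensional k V]

/-- A central nilpotent element acts as zero on an irreducible module. -/
theorem act_eq_zero_of_nilpotent {ρ : Representation k H V} (hρ : Irr ρ)
    {u : MonoidAlgebra k H} (hu : ∀ x, u * x = x * u) (hun : IsNilpotent u) : act ρ u = 0 := by
  have h1 : IsHom ρ ρ (act ρ u) := by
    rw [isHom_iff]
    intro g v
    have h2 : act ρ (u * MonoidAlgebra.single g 1) = act ρ (MonoidAlgebra.single g 1 * u) := by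
      rw [hu]
    rw [act_mul, act_mul, act_single] at h2
    exact LinearMap.congr_fun h2 v
  obtain ⟨c, hc⟩ := hρ.schur h1
  obtain ⟨n, hn⟩ := hun
  have h3 : (act ρ u : Module.End k V) ^ n = 0 := by
    have : (act ρ (u ^ n) : Module.End k V) = (act ρ u) ^ n := map_pow _ _ _
    rw [← this, hn, act, map_zero]
  obtain ⟨v, hv⟩ := hρ.1
  have h4 : ∀ m : ℕ, ((act ρ u : Module.End k V) ^ m) v = c ^ m • v := by
    intro m
    induction m with
    | zero => rw [pow_zero, pow_zero, one_smul]; rfl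
    | succ m ih =>
      rw [pow_succ', Module.End.mul_apply, ih, map_smul, hc, LinearMap.smul_apply,
        LinearMap.id_apply, smul_smul, ← pow_succ]
  have h5 := h4 n
  rw [h3, LinearMap.zero_apply] at h5
  rcases smul_eq_zero.1 h5.symm with h | h
  · have hc0 : c = 0 := by
      by_contra hne
      exact pow_ne_zero n hne h
    rw [hc, hc0, zero_smul]
  · exact absurd h hv

/-- The idempotent `i` of the corner data projects an irreducible module of the block onto a
line. -/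
theorem exists_line {ρ : Representation k H V} (hρ : Irr ρ) {u f i : MonoidAlgebra k H}
    (hc : CornerData (k := k) u f i) (hf : act ρ f = LinearMap.id) :
    ∃ v₀ : V, v₀ ≠ 0 ∧ act ρ i v₀ = v₀ ∧ ∀ v, ∃ c : k, act ρ i v = c • v₀ := by
  have hu := act_eq_zero_of_nilpotent hρ hc.comm_u hc.nilp
  obtain ⟨w, hw⟩ := hρ.1
  have h1 : ∃ v, act ρ i v ≠ 0 := by
    by_contra hcon
    push Not at hcon
    obtain ⟨n, a, b, ha, hb, hab⟩ := hc.gen
    apply hw
    have h2 : act ρ f w = w := by rw [hf]; rfl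
    rw [← h2, ← hab, act_sum, LinearMap.sum_apply]
    refine Finset.sum_eq_zero fun j _ => ?_
    rw [act_mul, LinearMap.comp_apply, ← hb j, act_mul, LinearMap.comp_apply, hcon, map_zero]
  obtain ⟨v₁, hv₁⟩ := h1
  set v₀ := act ρ i v₁ with hv₀
  have hiv : act ρ i v₀ = v₀ := by
    rw [hv₀, ← LinearMap.comp_apply, ← act_mul, hc.idem_i]
  refine ⟨v₀, hv₁, hiv, fun v => ?_⟩
  let N : Submodule k V := LinearMap.range
    ((LinearMap.applyₗ v₀ : Module.End k V →ₗ[k] V) ∘ₗ ρ.asAlgebraHom.toLinearMap)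
  have hN : ∀ x, x ∈ N ↔ ∃ z : MonoidAlgebra k H, act ρ z v₀ = x := fun x => Iff.rfl
  have hst : Stable ρ N := by
    intro g x hx
    rw [hN] at hx ⊢
    obtain ⟨z, rfl⟩ := hx
    refine ⟨MonoidAlgebra.single g 1 * z, ?_⟩
    rw [act_mul, LinearMap.comp_apply, act_single]
  rcases hρ.2 N hst with h | h
  · exfalso
    have h3 : v₀ ∈ N := (hN _).2 ⟨1, by rw [act, map_one]; rfl⟩
    rw [h, Submodule.mem_bot] at h3
    exact hv₁ h3
  · have h3 : v ∈ N := by rw [h]; trivial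
    obtain ⟨z, rfl⟩ := (hN _).1 h3
    obtain ⟨P, hP⟩ := hc.corner z
    refine ⟨P.coeff 0, ?_⟩
    have h4 : act ρ i (act ρ z v₀) = act ρ (i * z * i) v₀ := by
      rw [act_mul, act_mul, LinearMap.comp_apply, LinearMap.comp_apply, hiv]
    rw [h4, hP, act_mul, LinearMap.comp_apply, hiv, act_aeval, hu]
    have h5 : Polynomial.aeval (0 : Module.End k V) P = algebraMap k _ (P.coeff 0) := by
      rw [Polynomial.aeval_def, Polynomial.eval₂_at_zero]
    rw [h5, Module.algebraMap_end_apply]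

end irr

section step

variable {k : Type*} [Field k] {G : Type*} [Group G] [Fintype G]

theorem exists_hom_of_iso' [IsAlgClosed k] {D T C : Subgroup G} [Fintype T] [Fintype C]
    (hDC : D ≤ C) (hCT : C ≤ T) [Fintype (T ⧸ C.subgroupOf T)]
    (hidx : (Fintype.card (T ⧸ C.subgroupOf T) : k) ≠ 0)
    {f w : MonoidAlgebra k G} (hff : f * f = f) (hfT : Fixed T f) (hfC : Supp C f)
    (hw : Fixed D w) (hfw : f * w = w) (htr : relTr D T w = f)
    (hN : ∀ g, g ∉ T → f * cj g f = 0 ∨ ∀ t ∈ T, ∀ x ∈ T, g⁻¹ * x * g ∈ D → t⁻¹ * x * t ∈ D →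
      x = 1)
    {u i : MonoidAlgebra k C} (hcd : CornerData (k := k) u (Blk.res C f) i)
    {V : Type*} [AddCommGroup V] [Module k V] [FiniteDimensional k V]
    {ρ : Representation k C V} (hρ : Irr ρ) {σ σ' : Representation k T V}
    (hσ : ∀ c : C, σ ⟨c, hCT c.2⟩ = ρ c) (hσ' : ∀ c : C, σ' ⟨c, hCT c.2⟩ = ρ c)
    (hρf : act ρ (Blk.res C f) = LinearMap.id)
    {S S' : Type*} [AddCommGroup S] [Module k S] [FiniteDimensional k S] [AddCommGroup S']
    [Module k S'] {τ : Representation k G S} {τ' : Representation k G S'}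
    (hτ : Irr τ) (hτ' : Irr τ') {m : V →ₗ[k] S} {m' : V →ₗ[k] S'}
    (hm : IsHom σ (res T τ) m) (hn : ¬ IsPr σ (res T τ) m)
    (hm' : IsHom σ' (res T τ') m') (hn' : ¬ IsPr σ' (res T τ') m')
    {θ : S' →ₗ[k] S} (hθ : IsHom τ' τ θ) (h0 : θ ≠ 0) :
    ∃ θ' : V →ₗ[k] V, IsHom σ' σ θ' ∧ θ' ≠ 0 := by
  classical
  obtain ⟨e, he, hes⟩ := hom_symm_ne hτ' hτ hθ h0
  have hm'' : IsHom σ' (res T τ) (θ ∘ₗ m') := (hθ.res T).comp hm'
  have hn'' : ¬ IsPr σ' (res T τ) (θ ∘ₗ m') := by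
    intro h
    apply hn'
    have h1 := IsPr.comp_left (hes.res T) h
    have h2 : (e.symm : S →ₗ[k] S') ∘ₗ (θ ∘ₗ m') = m' := by
      rw [← he]
      apply LinearMap.ext; intro v
      simp
    rwa [h2] at h1
  have hσf : act σ (Blk.res T f) = LinearMap.id := by
    rw [act_bres_of_supp hCT hfC σ ρ hσ, hρf]
  have hσf' : act σ' (Blk.res T f) = LinearMap.id := by
    rw [act_bres_of_supp hCT hfC σ' ρ hσ', hρf]
  have hmC : IsHom ρ (res C τ) m := by
    rw [isHom_iff]
    intro c v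
    have := hm.apply ⟨c, hCT c.2⟩ v
    rw [hσ] at this
    exact this
  have hmC' : IsHom ρ (res C τ) (θ ∘ₗ m') := by
    rw [isHom_iff]
    intro c v
    have := hm''.apply ⟨c, hCT c.2⟩ v
    rw [hσ'] at this
    exact this
  have hm0 : m ≠ 0 := by
    intro h
    apply hn
    rw [h]
    exact IsPr.zero
  have hinj : Function.Injective m := hρ.injective_of_ne_zero hmC hm0
  obtain ⟨v₀, hv₀, hiv₀, hline⟩ := exists_line hρ hcd hρf
  have hρu := act_eq_zero_of_nilpotent hρ hcd.comm_u hcd.nilp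
  have hact : act (res C τ) (Blk.res C f) = act τ f := (act_of_supp hfC τ).symm
  obtain ⟨h, hh, hFh, hhm, hhk⟩ := exists_retraction_corner hcd hρf hρu hmC hiv₀ hline
    (fun h => hv₀ (hinj (by rw [h, map_zero])))
  rw [hact] at hFh
  refine exists_hom_of_average (C := C.subgroupOf T) hidx hm hm'' hinj hn hn'' (F := act τ f)
    (h := h) ?_ ?_ ?_ ?_ hFh hhm ?_ ?_
  · intro t
    have h1 := act_cj τ (t : G) f
    rw [hfT t t.2] at h1
    exact h1.symm
  · rw [act_comp_of_supp (hfC.mono hCT) hm, hσf, LinearMap.comp_id]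
  · rw [act_comp_of_supp (hfC.mono hCT) hm'', hσf', LinearMap.comp_id]
  · intro c hc
    exact hh ⟨(c : G), hc⟩
  · intro v'
    apply hhk
    have h1 := LinearMap.congr_fun (hmC'.act u) v'
    rw [hρu] at h1
    rw [LinearMap.comp_zero, LinearMap.zero_apply] at h1
    exact h1.symm
  · intro b hb hFbF
    exact end_scalar_mod_pr (hDC.trans hCT) hff hfT hw hfw htr hN hτ hb hFbF

end step

variable {G : Type u} [Group G] [Fintype G] {M : Ideal AlgInt} [hMp : M.IsPrime] {p : ℕ}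
  [hp : Fact p.Prime] {B : Set (IrrCharacter G)}

/-- `l(B)` is at least the inertial index. -/
theorem relIndex_le_blockRank_gen (hM : IsPModular p M) (hB : IsPBlock M B)
    {D₁ D C T : Subgroup G} (hD₁ : Nat.card D₁ = p) (hD₁D : D₁ ≤ D)
    (hC : C = Subgroup.centralizer (D₁ : Set G)) (hCT : C ≤ T)
    (hTC : T ≤ Subgroup.normalizer (C : Set G)) (hCn : (C.subgroupOf T).Normal)
    (hcyc : IsCyclic (T ⧸ C.subgroupOf T))
    {b : Set (IrrCharacter C)} (hb : IsPBlock M b) (hrank : blockRank p b = 1)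
    (hfT : Fixed T (EB M C b)) (hdef : IsDef p C (EB M C b) D)
    (hpair : br D₁ (eB M B) * EB M C b = EB M C b)
    (hnd : ¬ p ∣ C.relIndex T)
    (hN : ∀ g, g ∉ T → EB M C b * cj g (EB M C b) = 0 ∨
      ∀ t ∈ T, ∀ x ∈ T, g⁻¹ * x * g ∈ D → t⁻¹ * x * t ∈ D → x = 1) [Fintype C]
    {u i : MonoidAlgebra (kM M) C} (hcd : CornerData (k := kM M) u (eB M b) i) :
    C.relIndex T ≤ blockRank p B := by
  classical
  set f : MonoidAlgebra (kM M) G := EB M C b with hf
  haveI hcp : CharP (kM M) p := charP_kM hM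
  have hpp : p.Prime := hp.out
  have hfB : IsBlk C f := isBlk_EB hb
  have hDC : D ≤ C := hdef.le
  have hD₁C : D₁ ≤ C := hD₁D.trans hDC
  have hD₁T : D₁ ≤ T := hD₁C.trans hCT
  have hcomm : ∀ c ∈ C, ∀ d ∈ D₁, d * c = c * d := by
    intro c hc d hd
    rw [hC] at hc
    exact Subgroup.mem_centralizer_iff.1 hc d hd
  obtain ⟨V, i1, i2, i3, ρ, σ₀, hρ, hρf, hσ₀⟩ :=
    exists_local_module hM hCT hTC hCn hcyc hb hrank hfT
  -- `D₁` acts trivially
  have hDρ : ∀ d (hd : d ∈ D₁), ρ ⟨d, hD₁C hd⟩ = 1 := by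
    intro d hd
    have hcent : ∀ g : C, g * ⟨d, hD₁C hd⟩ = ⟨d, hD₁C hd⟩ * g := by
      intro g
      apply Subtype.ext
      exact (hcomm g g.2 d hd).symm
    refine eq_one_of_central (p := p) (n := 1) hρ hcent ?_
    apply Subtype.ext
    rw [pow_one, ← hD₁]
    have := pow_card_eq_one' (x := (⟨d, hd⟩ : D₁))
    exact congrArg (fun y : D₁ => (y : G)) this
  -- linear characters
  let A := T ⧸ C.subgroupOf T
  have hn0 : (Nat.card A : kM M) ≠ 0 := by
    intro h
    exact hnd ((CharP.cast_eq_zero_iff (kM M) p _).1 h)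
  have hcl := card_linear (k := kM M) (A := A) hcyc hn0
  haveI : Finite (A →* (kM M)ˣ) := Nat.finite_of_card_ne_zero (by rw [hcl]; exact Nat.card_pos.ne')
  haveI : Fintype (A →* (kM M)ˣ) := Fintype.ofFinite _
  have hcardA : Fintype.card (A →* (kM M)ˣ) = C.relIndex T := by
    rw [← Nat.card_eq_fintype_card, hcl]
    rfl
  let σ : (A →* (kM M)ˣ) → Representation (kM M) T V := fun φ =>
    twist σ₀ (φ.comp (QuotientGroup.mk' (C.subgroupOf T)))
  have hσ : ∀ φ (t : T), σ φ t = ((φ (t : A) : (kM M)ˣ) : kM M) • σ₀ t := fun φ t => rfl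
  have hσC : ∀ φ (c : C), σ φ ⟨c, hCT c.2⟩ = ρ c := by
    intro φ c
    rw [hσ]
    have h1 : ((⟨c, hCT c.2⟩ : T) : A) = 1 := by
      rw [QuotientGroup.eq_one_iff]; exact c.2
    rw [h1, map_one, Units.val_one, one_smul, hσ₀]
  have hσD : ∀ φ (t : T), (t : G) ∈ D₁ → σ φ t = 1 := by
    intro φ t ht
    have h1 := hσC φ ⟨t, hD₁C ht⟩
    rw [hDρ t ht] at h1
    exact h1
  have hresf : Blk.res C f = eB M b := by
    apply incl_injective
    rw [incl_res hfB.supp]
    rfl
  have hσf : ∀ φ, act (σ φ) (Blk.res T f) = LinearMap.id := by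
    intro φ
    rw [act_bres_of_supp hCT hfB.supp (σ φ) ρ (hσC φ), hresf, hρf]
  have hβfix : Fixed ⊤ (eB M B) := fixed_eB B
  have hD₁p : IsPGroup p D₁ := IsPGroup.of_card (n := 1) (by rw [hD₁, pow_one])
  have hβ : ∀ φ (v : V), ∑ t : T, (eB M B).coeff (t : G) • σ φ t v = v := by
    intro φ v
    have h1 := act_bres_br (p := p) hD₁p hD₁T (hβfix.mono le_top) (σ φ) hρ.1 (hσD φ)
    have h2 : act (σ φ) (Blk.res T (br D₁ (eB M B))) = LinearMap.id := by
      have hs : Supp T (br D₁ (eB M B)) := (supp_br D₁ _).mono (by rw [← hC]; exact hCT)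
      have h3 : act (σ φ) (Blk.res T (br D₁ (eB M B) * f)) =
          act (σ φ) (Blk.res T (br D₁ (eB M B))) ∘ₗ act (σ φ) (Blk.res T f) := by
        rw [bres_mul hs (hfB.supp.mono hCT), act_mul]
      rw [hpair, hσf, LinearMap.comp_id] at h3
      exact h3.symm
    rw [h2, act_bres] at h1
    have h4 := LinearMap.congr_fun h1 v
    rw [LinearMap.sum_apply] at h4
    exact h4
  have hcard0 : (Nat.card D₁ : kM M) = 0 := by
    rw [hD₁, CharP.cast_eq_zero]
  have hex : ∀ φ : A →* (kM M)ˣ, _ := fun φ =>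
    exists_irr_nonproj hD₁T hcard0 (σ φ) hρ.1 (hσD φ) hβfix (eB_idem hB) (hβ φ)
  choose S j1 j2 j3 τ hτ hτβ m hm hn using hex
  rw [← hcardA]
  refine card_irr_le_blockRank hM hB τ hτ ?_ hτβ
  intro φ ψ hne θ hθ
  by_contra h0
  obtain ⟨w, hwC, hwD, hfw, htr⟩ := exists_trace_elt hfB hdef hCT hfT hnd
  haveI : Fintype (T ⧸ C.subgroupOf T) := Fintype.ofFinite _
  obtain ⟨θ', hθ', h0'⟩ := exists_hom_of_iso' (σ := σ ψ) (σ' := σ φ) hDC hCT
    (by rw [← Nat.card_eq_fintype_card]; exact hn0) hfB.idem hfT hfB.supp hwD hfw htr hN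
    (by rw [hresf]; exact hcd) hρ (hσC ψ) (hσC φ) (by rw [hresf]; exact hρf) (hτ ψ) (hτ φ)
    (hm ψ) (hn ψ) (hm φ) (hn φ) hθ h0
  -- the homomorphism is a scalar
  have hθC : IsHom ρ ρ θ' := by
    rw [isHom_iff]
    intro c v
    have := hθ'.apply ⟨c, hCT c.2⟩ v
    rwa [hσC, hσC] at this
  obtain ⟨c, hc⟩ := hρ.schur hθC
  have hc0 : c ≠ 0 := by
    intro h; apply h0'; rw [hc, h, zero_smul]
  obtain ⟨v, hv⟩ := hρ.1
  apply hne
  refine MonoidHom.ext fun t' => ?_
  obtain ⟨t, rfl⟩ := QuotientGroup.mk_surjective t'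
  apply Units.ext
  have h5 := hθ'.apply t v
  rw [hc] at h5
  simp only [LinearMap.smul_apply, LinearMap.id_apply, hσ, map_smul] at h5
  have h6 : σ₀ t v ≠ 0 := by
    intro h
    apply hv
    rw [← rep_inv_apply σ₀ t v, h, map_zero]
  have h7 : (c * (((φ (t : A) : (kM M)ˣ) : kM M) - ((ψ (t : A) : (kM M)ˣ) : kM M))) • σ₀ t v =
      0 := by
    rw [mul_smul, sub_smul, smul_sub, smul_comm c (((φ (t : A) : (kM M)ˣ) : kM M)), sub_eq_zero]
    exact h5
  rcases smul_eq_zero.1 h7 with h | h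
  · rcases mul_eq_zero.1 h with h | h
    · exact absurd h hc0
    · exact sub_eq_zero.1 h
  · exact absurd h h6

end Cfsg.Agent.Cyc
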