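import Mathlib

/-!
# Sums of `p`-th roots of unity whose `p`-th power is an integer
-/

set_option autoImplicit false
set_option linter.unusedSectionVars false

namespace Cfsg.Agent.Cyc

open Polynomial

theorem coeff_const {p : ℕ} [hp : Fact p.Prime] {ζ : ℂ} (hζ : IsPrimitiveRoot ζ p) (f : ℚ[X])
    (hdeg : f.natDegree < p) (hf : aeval ζ f = 0) :
    ∀ i j, i < p → j < p → f.coeff i = f.coeff j := by
  have hmin : cyclotomic p ℚ = minpoly ℚ ζ := cyclotomic_eq_minpoly_rat hζ hp.out.pos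
  have hdvd : cyclotomic p ℚ ∣ f := by rw [hmin]; exact minpoly.dvd ℚ ζ hf
  obtain ⟨g, hg⟩ := hdvd
  by_cases hf0 : f = 0
  · simp [hf0]
  have hg0 : g ≠ 0 := by rintro rfl; exact hf0 (by rw [hg, mul_zero])
  have hcn : (cyclotomic p ℚ).natDegree = p - 1 := by
    rw [natDegree_cyclotomic, Nat.totient_prime hp.out]
  have hgd : g.natDegree = 0 := by
    have := natDegree_mul (cyclotomic_ne_zero p ℚ) hg0
    rw [← hg, hcn] at this
    omega
  rw [natDegree_eq_zero] at hgd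
  obtain ⟨c, rfl⟩ := hgd
  have key : ∀ i < p, f.coeff i = c := by
    intro i hi
    rw [hg, cyclotomic_prime, coeff_mul_C, finsetSum_coeff]
    simp [coeff_X_pow, hi]
  intro i j hi hj
  rw [key i hi, key j hj]

open IntermediateField in
theorem rat_root {p : ℕ} [hp : Fact p.Prime] {ζ : ℂ} (hζ : IsPrimitiveRoot ζ p) (θ : ℂ)
    (hθ : θ ∈ ℚ⟮ζ⟯) (α : ℚ) (h : θ ^ p = α) : ∃ ρ : ℚ, ρ ^ p = α := by
  by_contra hcon
  push Not at hcon
  have hirr := X_pow_sub_C_irreducible_of_prime hp.out hcon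
  have hint : IsIntegral ℚ ζ := (IsPrimitiveRoot.isIntegral hζ hp.out.pos).tower_top
  have hroot : aeval θ (X ^ p - C α) = 0 := by
    rw [map_sub, map_pow, aeval_X, aeval_C, h]
    simp
  have hmin : X ^ p - C α = minpoly ℚ θ :=
    minpoly.eq_of_irreducible_of_monic hirr hroot (monic_X_pow_sub_C α hp.out.ne_zero)
  have hfin : FiniteDimensional ℚ ℚ⟮ζ⟯ := adjoin.finiteDimensional hint
  have hd1 : (minpoly ℚ θ).natDegree = p := by
    rw [← hmin, natDegree_X_pow_sub_C]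
  have hd2 : (minpoly ℚ (⟨θ, hθ⟩ : ℚ⟮ζ⟯)).natDegree ≤ Module.finrank ℚ ℚ⟮ζ⟯ :=
    minpoly.natDegree_le _
  have hd3 : Module.finrank ℚ ℚ⟮ζ⟯ = p - 1 := by
    rw [adjoin.finrank hint, ← cyclotomic_eq_minpoly_rat hζ hp.out.pos, natDegree_cyclotomic,
      Nat.totient_prime hp.out]
  have hd4 : minpoly ℚ (⟨θ, hθ⟩ : ℚ⟮ζ⟯) = minpoly ℚ θ :=
    IntermediateField.minpoly_eq (S := ℚ⟮ζ⟯) ⟨θ, hθ⟩
  rw [hd4, hd1, hd3] at hd2
  have := hp.out.pos
  omega

open IntermediateField in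
theorem nt_lemma {p : ℕ} [hp : Fact p.Prime] {ζ : ℂ} (hζ : IsPrimitiveRoot ζ p) (J : Finset ℕ)
    (hJ : J ⊆ Finset.range p) (α : ℤ) (h : (∑ j ∈ J, ζ ^ j) ^ p = α) :
    J.card ≤ 1 ∨ p - 1 ≤ J.card := by
  set θ := ∑ j ∈ J, ζ ^ j with hθ
  have hmem : θ ∈ ℚ⟮ζ⟯ := sum_mem fun j _ => pow_mem (mem_adjoin_simple_self ℚ ζ) j
  obtain ⟨ρ, hρ⟩ := rat_root hζ θ hmem (α : ℚ) (by rw [h]; simp)
  have hJc : ∀ i, (∑ j ∈ J, (X : ℚ[X]) ^ j).coeff i = if i ∈ J then 1 else 0 := by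
    intro i
    rw [finsetSum_coeff]
    simp [coeff_X_pow]
  have hJd : (∑ j ∈ J, (X : ℚ[X]) ^ j).natDegree < p := by
    have h1 : (∑ j ∈ J, (X : ℚ[X]) ^ j).natDegree ≤ p - 1 := by
      apply natDegree_sum_le_of_forall_le
      intro j hj
      have := Finset.mem_range.1 (hJ hj)
      rw [natDegree_X_pow]
      omega
    have := hp.out.pos
    omega
  have hJa : aeval ζ (∑ j ∈ J, (X : ℚ[X]) ^ j) = θ := by
    rw [map_sum]
    simp [hθ]
  -- there is `s` such that membership is constant off `s`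
  obtain ⟨s, hs⟩ : ∃ s, ∀ i j, i < p → j < p → i ≠ s → j ≠ s → (i ∈ J ↔ j ∈ J) := by
    by_cases hρ0 : ρ = 0
    · refine ⟨p, fun i j hi hj _ _ => ?_⟩
      have hα : θ = 0 := by
        rw [hρ0, zero_pow hp.out.ne_zero] at hρ
        have hα0 : (α : ℤ) = 0 := by exact_mod_cast hρ.symm
        rw [hα0, Int.cast_zero] at h
        exact pow_eq_zero_iff hp.out.ne_zero |>.1 h
      have h2 := coeff_const hζ _ hJd (by rw [hJa, hα]) i j hi hj
      rw [hJc, hJc] at h2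
      by_cases h3 : i ∈ J <;> by_cases h4 : j ∈ J <;> simp_all
    · have hρC : (ρ : ℂ) ≠ 0 := by exact_mod_cast hρ0
      have h2 : (θ / ρ) ^ p = 1 := by
        rw [div_pow, h]
        have : (ρ : ℂ) ^ p = (α : ℂ) := by exact_mod_cast hρ
        rw [this, div_self]
        rw [← this]
        exact pow_ne_zero _ hρC
      obtain ⟨s, hsp, hs⟩ := hζ.eq_pow_of_pow_eq_one h2
      refine ⟨s, fun i j hi hj his hjs => ?_⟩
      have h3 : aeval ζ (∑ j ∈ J, (X : ℚ[X]) ^ j - C ρ * X ^ s) = 0 := by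
        rw [map_sub, hJa, map_mul, map_pow, aeval_X, aeval_C, hs]
        have : (algebraMap ℚ ℂ) ρ = (ρ : ℂ) := rfl
        rw [this, mul_div_cancel₀ _ hρC, sub_self]
      have h4 : (∑ j ∈ J, (X : ℚ[X]) ^ j - C ρ * X ^ s).natDegree < p := by
        refine lt_of_le_of_lt (natDegree_sub_le _ _) (max_lt hJd ?_)
        exact lt_of_le_of_lt (natDegree_C_mul_X_pow_le ρ s) hsp
      have h5 := coeff_const hζ _ h4 h3 i j hi hj
      rw [coeff_sub, coeff_sub, hJc, hJc, coeff_C_mul, coeff_C_mul, coeff_X_pow, coeff_X_pow,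
        if_neg his, if_neg hjs, mul_zero, sub_zero, sub_zero] at h5
      by_cases h6 : i ∈ J <;> by_cases h7 : j ∈ J <;> simp_all
  by_cases hex : ∃ i, i < p ∧ i ≠ s ∧ i ∈ J
  · right
    obtain ⟨i, hi, his, hiJ⟩ := hex
    have hsub : (Finset.range p).erase s ⊆ J := by
      intro j hj
      rw [Finset.mem_erase, Finset.mem_range] at hj
      exact (hs i j hi hj.2 his hj.1).1 hiJ
    have h1 := Finset.card_le_card hsub
    have h2 := Finset.pred_card_le_card_erase (s := Finset.range p) (a := s)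
    rw [Finset.card_range] at h2
    omega
  · left
    push Not at hex
    have hsub : J ⊆ {s} := by
      intro j hj
      rw [Finset.mem_singleton]
      by_contra hne
      exact hex j (Finset.mem_range.1 (hJ hj)) hne hj
    have := Finset.card_le_card hsub
    simpa using this

end Cfsg.Agent.Cyc
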