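import Cfsg.Agent.Cyc.TP10
import Cfsg.Agent.Cyc.TP11
import Cfsg.Agent.Cyc.TPI
import Cfsg.Agent.H52.NoSE
import Cfsg.Agent.H52.Deg3p
import Cfsg.Agent.H95.Deg15

/-!
Simple transitive groups of degree `3p`: the primitive case.
-/

set_option autoImplicit false

open scoped ComplexConjugate Pointwise

namespace Cfsg.Agent.Cyc.TP

open Cfsg Subgroup Cfsg.Agent.BR Cfsg.Agent.BT MulAction Cfsg.Agent.H74

universe u v

theorem primitive {G : Type u} [Group G] [Fintype G] [IsSimpleGroup G]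
    (hna : ∃ a b : G, a * b ≠ b * a) {p : ℕ} [hp : Fact p.Prime]
    (hp3 : 3 < p) {Ω : Type v} [Fintype Ω] [MulAction G Ω] [FaithfulSMul G Ω]
    [hprim : IsPreprimitive G Ω]
    (hΩ : Fintype.card Ω = 3 * p) (P : Sylow p G)
    (hN : Nat.card (normalizer ((P : Subgroup G) : Set G)) = 2 * p) :
    p = 5 ∧ Nonempty (G ≃* alternatingGroup (Fin 6)) := by
  classical
  have hpp := hp.out
  obtain ⟨hpG, hPc⟩ := card_sylow_prime hp3 P hN
  have hSp : Sp p (P : Subgroup G) := Sp.of_sylow P hPc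
  have hperf := perfect_of_simple hna
  have hΩ' : Nat.card Ω = 3 * p := by rw [Nat.card_eq_fintype_card, hΩ]
  have hpodd : Odd p := hpp.odd_of_ne_two (by omega)
  have hodd : Odd (Nat.card Ω) := by
    rw [hΩ']
    exact Odd.mul (by decide) hpodd
  have hse : ∀ M : Subgroup G, IsStronglyEmbedded M → False := fun M hM =>
    H52.NoSE.no_se hna (Om := Ω) hpp hp3 hΩ P hN hM
  have hNp : Nonempty Ω := by
    have : 0 < Nat.card Ω := by rw [hΩ']; omega
    exact (Nat.card_pos_iff.mp this).1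
  have hev : Even (Nat.card G) := by
    have h3 := Subgroup.card_subgroup_dvd_card (Subgroup.normalizer ((P : Subgroup G) : Set G))
    rw [hN] at h3
    exact (even_two_mul p).trans_dvd h3
  obtain ⟨a⟩ := hNp
  have h1case : (∀ u : G, orderOf u = 2 → Nat.card (fixedBy Ω u) = 1) → False := fun h =>
    hse _ (se_of_one h hodd (by rw [hΩ']; omega) hev a)
  let S : Sylow 2 G := default
  have hS : (S : Subgroup G) ≠ ⊥ := by
    have : Fact (Nat.Prime 2) := ⟨Nat.prime_two⟩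
    intro h
    have h4 := S.not_dvd_index
    rw [h, Subgroup.index_bot] at h4
    exact h4 hev.two_dvd
  have h3case : (∀ u : G, orderOf u = 2 → Nat.card (fixedBy Ω u) = 3) → Nonempty (Loc Ω S) := by
    intro h
    rcases se_or_loc hodd (by rw [hΩ']; omega) h S hS with ⟨M, hM⟩ | hL
    · exact absurd (hse M hM) id
    · exact hL
  rcases trichotomy hp3 hΩ hna hSp hN with ⟨⟨d⟩⟩ | ⟨d, Ψ, hd, hΨ, hπ⟩ | ⟨d, hd, hπ⟩ |
    ⟨hp5, χ, hχ, hv⟩
  · exfalso
    obtain ⟨M, hM⟩ := e2_se hp3 d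
    exact hse M hM
  · rcases d.fix_all (Ω := Ω) hp3 hΩ with h | h
    · exact absurd (h1case h) id
    obtain ⟨L⟩ := h3case h
    let K : K2 Ω p P S := ⟨hΩ, d, Ψ, hd, hΨ, hπ, L⟩
    have hF := H52.Deg3p.subdegrees hp3 hΩ d.χ Ψ hπ (by
      rw [dg_eq]
      have h1 : ((dg d.χ + 1 : ℕ) : ℂ) = ((2 * p : ℕ) : ℂ) := by rw [hd]
      push_cast at h1
      linear_combination h1) (by rw [dg_eq, hΨ]) K.L.α
    have hT := K.card_T hperf (by
      obtain ⟨r, hr, hb⟩ := hF
      exact ⟨r, hr, hb⟩)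
    obtain ⟨h5, e, he, hG⟩ := K.final hperf hT
    refine ⟨h5, ?_⟩
    exact H95.Deg15.deg15 (Om := Ω) (by rw [hΩ, h5]) e he hG
  · exfalso
    rcases d.fix_all (Ω := Ω) hp3 hΩ with h | h
    · exact h1case h
    obtain ⟨L⟩ := h3case h
    exact d.false3 hΩ hd hπ L
  · exact absurd (case_six hp3 hΩ hna hSp hN hχ hv) id

end Cfsg.Agent.Cyc.TP
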