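import Cfsg.Agent.Cyc.Corner
import Cfsg.Agent.Star.FD
import Mathlib.RingTheory.Jacobson.Radical
import Mathlib.RingTheory.Artinian.Module

/-!
# A symmetric algebra with centre `k[u]` and one simple module is uniserial
-/

set_option autoImplicit false
set_option linter.unusedSectionVars false
set_option linter.style.haveILetI false

namespace Cfsg.Agent.Cyc

open Cfsg.Agent.Star

section poly

variable {k : Type*} [Field k] {A : Type*} [Ring A] [Algebra k A]

/-- If `u` is nilpotent and commutes with everything, the annihilator of `u` in `k[u] f` is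
one-dimensional. -/
theorem exists_smul_of_ann {u f : A} (hu : IsNilpotent u) (huf : Commute u f) (hf : f ≠ 0)
    {P Q : Polynomial k} (hP : u * (Polynomial.aeval u P * f) = 0)
    (hQ : u * (Polynomial.aeval u Q * f) = 0) (hQ0 : Polynomial.aeval u Q * f ≠ 0) :
    ∃ c : k, Polynomial.aeval u P * f = c • (Polynomial.aeval u Q * f) := by
  classical
  have hex : ∃ m : ℕ, u ^ m * f = 0 := by
    obtain ⟨N, hN⟩ := hu
    exact ⟨N, by rw [hN, zero_mul]⟩
  set m := Nat.find hex with hm
  have hm0 : m ≠ 0 := by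
    intro h0
    have := Nat.find_spec hex
    rw [← hm, h0, pow_zero, one_mul] at this
    exact hf this
  have hmz : u ^ m * f = 0 := Nat.find_spec hex
  have hmlt : ∀ j, j < m → u ^ j * f ≠ 0 := fun j hj h => Nat.find_min hex hj h
  -- `X ^ m` divides every polynomial killing `f`
  have hdvd : ∀ R : Polynomial k, Polynomial.aeval u R * f = 0 → Polynomial.X ^ m ∣ R := by
    intro R hR
    by_cases hR0 : R = 0
    · rw [hR0]; exact dvd_zero _
    obtain ⟨R', hR', hnd⟩ := Polynomial.exists_eq_pow_rootMultiplicity_mul_and_not_dvd R hR0 (0 : k)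
    set j := Polynomial.rootMultiplicity (0 : k) R with hj
    have hX : (Polynomial.X - Polynomial.C (0 : k)) = Polynomial.X := by simp
    rw [hX] at hR' hnd
    have hcop : IsCoprime (Polynomial.X ^ m) R' := by
      apply IsCoprime.pow_left
      exact (Polynomial.irreducible_X.coprime_iff_not_dvd).2 hnd
    obtain ⟨a, b, hab⟩ := hcop
    have h1 : u ^ j * f = 0 := by
      have h2 : Polynomial.aeval u (b * R) * f = 0 := by
        rw [map_mul, mul_assoc, hR, mul_zero]
      have h3 : b * R = Polynomial.X ^ j * (1 - a * Polynomial.X ^ m) := by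
        rw [hR', ← hab]; ring
      rw [h3] at h2
      have h4 : Polynomial.aeval u (Polynomial.X ^ j * (1 - a * Polynomial.X ^ m)) * f =
          u ^ j * f - u ^ j * (Polynomial.aeval u a * (u ^ m * f)) := by
        rw [map_mul, map_sub, map_mul, map_one, map_pow, map_pow, Polynomial.aeval_X, mul_sub,
          mul_one, sub_mul]
        simp only [mul_assoc]
      rw [h4, hmz, mul_zero, mul_zero, sub_zero] at h2
      exact h2
    by_contra hcon
    have hjm : j < m := by
      by_contra hge
      apply hcon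
      rw [hR']
      exact Dvd.dvd.mul_right (pow_dvd_pow _ (by omega)) _
    exact hmlt j hjm h1
  have hform : ∀ R : Polynomial k, u * (Polynomial.aeval u R * f) = 0 →
      ∃ c : k, Polynomial.aeval u R * f = c • (u ^ (m - 1) * f) := by
    intro R hR
    have h1 : Polynomial.aeval u (Polynomial.X * R) * f = 0 := by
      rw [map_mul, Polynomial.aeval_X, mul_assoc, hR]
    have h2 := hdvd _ h1
    have h3 : Polynomial.X ^ (m - 1) ∣ R := by
      have h4 : (Polynomial.X : Polynomial k) ^ m = Polynomial.X * Polynomial.X ^ (m - 1) := by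
        rw [← pow_succ']; congr 1; omega
      rw [h4] at h2
      exact (mul_dvd_mul_iff_left Polynomial.X_ne_zero).1 h2
    obtain ⟨Q', hQ'⟩ := h3
    refine ⟨Q'.coeff 0, ?_⟩
    have h5 : Q' = Polynomial.X * Polynomial.divX Q' + Polynomial.C (Q'.coeff 0) :=
      (Polynomial.X_mul_divX_add Q').symm
    rw [hQ', map_mul, map_pow, Polynomial.aeval_X]
    conv_lhs => rw [h5]
    rw [map_add, map_mul, Polynomial.aeval_X, Polynomial.aeval_C, mul_add, ← mul_assoc,
      ← pow_succ, show m - 1 + 1 = m by omega, add_mul]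
    have h6 : u ^ m * Polynomial.aeval u (Polynomial.divX Q') * f = 0 := by
      have h7 : Commute (u ^ m) (Polynomial.aeval u (Polynomial.divX Q')) :=
        ((commute_aeval (Commute.refl u) _).pow_left m)
      rw [h7.eq, mul_assoc, hmz, mul_zero]
    rw [h6, zero_add, ← Algebra.commutes, ← Algebra.smul_def, smul_mul_assoc]
  obtain ⟨c, hc⟩ := hform P hP
  obtain ⟨d, hd⟩ := hform Q hQ
  have hd0 : d ≠ 0 := by
    intro h; rw [h, zero_smul] at hd; exact hQ0 hd
  refine ⟨c * d⁻¹, ?_⟩
  rw [hc, hd, smul_smul, mul_assoc, inv_mul_cancel₀ hd0, mul_one]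

end poly

variable {k : Type*} [Field k] {A : Type*} [Ring A] [Algebra k A] [Module.Finite k A]

theorem isNilpotent_mul_central {u r : A} (hu : ∀ x, u * x = x * u) (h : IsNilpotent u) :
    IsNilpotent (u * r) := by
  obtain ⟨n, hn⟩ := h
  refine ⟨n, ?_⟩
  have : Commute u r := hu r
  rw [this.mul_pow, hn, zero_mul]

/-- Nilpotent elements of a local corner lie in the Jacobson radical. -/
theorem mem_jacobson_of_corner (k : Type*) [Field k] {A : Type*} [Ring A] [Algebra k A]
    [Module.Finite k A] {i : A} (hi : Prim i) {x : A} (h1 : i * x = x) (h2 : x * i = x)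
    (hx : IsNilpotent x) : x ∈ Ring.jacobson A := by
  rw [← Ideal.jacobson_bot, Ideal.mem_jacobson_iff]
  intro y
  have hn : IsNilpotent (y * x) := by
    have h3 : IsNilpotent (i * (y * x)) := by
      have h4 : i * (y * x) = (i * y * i) * x := by
        rw [mul_assoc (i * y) i x, h1, mul_assoc]
      rw [h4]
      refine hi.mul_nilpotent k h1 h2 ?_ ?_ hx
      · rw [← mul_assoc, ← mul_assoc, hi.idem]
      · rw [mul_assoc, hi.idem]
    have h5 := isNilpotent_mul_comm h3
    rwa [mul_assoc, h2] at h5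
  have hunit : IsUnit (1 + y * x) := hn.isUnit_one_add
  obtain ⟨z, hz⟩ := hunit
  refine ⟨((z⁻¹ : Aˣ) : A), ?_⟩
  have h6 : ((z⁻¹ : Aˣ) : A) * (1 + y * x) = 1 := by rw [← hz]; simp
  rw [Submodule.mem_bot, mul_assoc, sub_eq_zero]
  rw [mul_add, mul_one] at h6
  rw [add_comm]
  exact h6

theorem exists_cornerData [IsAlgClosed k] (s : A →ₗ[k] k)
    (hs : ∀ τ : A →ₗ[k] k, (∀ x y, τ (x * y) = τ (y * x)) →
      ∃ z, (∀ x, z * x = x * z) ∧ ∀ x, τ x = s (z * x))
    (hs0 : ∀ z, (∀ x, s (z * x) = 0) → z = 0)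
    {u f : A} (hu : ∀ x, u * x = x * u) (hun : IsNilpotent u) (hf : ∀ x, f * x = x * f)
    (hff : f * f = f) (hf0 : f ≠ 0)
    (hZ : ∀ z, (∀ x, z * x = x * z) → z * f = z → ∃ P : Polynomial k,
      z = Polynomial.aeval u P * f)
    (hE : ∀ i i' : A, Prim i → Prim i' → f * i = i → f * i' = i' → Eqv i i') :
    ∃ i, CornerData (k := k) u f i := by
  classical
  -- a primitive idempotent
  obtain ⟨i, hi, hfi⟩ : ∃ i : A, Prim i ∧ f * i = i := by
    have h := idem_induction k (fun e => f * e = e → e ≠ 0 → ∃ i : A, Prim i ∧ f * i = i)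
      (fun _ h => absurd rfl h) (fun e he h _ => ⟨e, he, h⟩)
      (fun e g he hg heg hge pe pg hef hne => by
        have h1 : f * e = e := by
          have : (e + g) * e = e := by rw [add_mul, he, hge, add_zero]
          rw [← this, ← mul_assoc, hef]
        have h2 : f * g = g := by
          have : (e + g) * g = g := by rw [add_mul, hg, heg, zero_add]
          rw [← this, ← mul_assoc, hef]
        by_cases he0 : e = 0
        · exact pg h2 (fun h => hne (by rw [he0, h, add_zero]))
        · exact pe h1 he0) f hff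
    exact h hff hf0
  have hif : i * f = i := by rw [← hf, hfi]
  -- `f` is generated by `i`
  have hgen : ∃ (n : ℕ) (a b : Fin n → A), (∀ j, a j * i = a j) ∧ (∀ j, i * b j = b j) ∧
      ∑ j, a j * b j = f := by
    have h := idem_induction k (fun e => f * e = e → ∃ (n : ℕ) (a b : Fin n → A),
        (∀ j, a j * i = a j) ∧ (∀ j, i * b j = b j) ∧ ∑ j, a j * b j = e)
      (fun _ => ⟨0, Fin.elim0, Fin.elim0, fun j => j.elim0, fun j => j.elim0, by simp⟩)
      (fun e he h => by
        obtain ⟨a, b, hab, hba, h1, h2, h3, h4⟩ := hE i e hi he hfi h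
        exact ⟨1, fun _ => b, fun _ => a, fun _ => h4, fun _ => h1, by simpa using hba⟩)
      (fun e g he hg heg hge pe pg hef => by
        have h1 : f * e = e := by
          have : (e + g) * e = e := by rw [add_mul, he, hge, add_zero]
          rw [← this, ← mul_assoc, hef]
        have h2 : f * g = g := by
          have : (e + g) * g = g := by rw [add_mul, hg, heg, zero_add]
          rw [← this, ← mul_assoc, hef]
        obtain ⟨n, a, b, ha, hb, hab⟩ := pe h1
        obtain ⟨n', a', b', ha', hb', hab'⟩ := pg h2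
        refine ⟨n + n', Fin.append a a', Fin.append b b', ?_, ?_, ?_⟩
        · intro j
          refine Fin.addCases (fun j => ?_) (fun j => ?_) j
          · rw [Fin.append_left]; exact ha j
          · rw [Fin.append_right]; exact ha' j
        · intro j
          refine Fin.addCases (fun j => ?_) (fun j => ?_) j
          · rw [Fin.append_left]; exact hb j
          · rw [Fin.append_right]; exact hb' j
        · rw [Fin.sum_univ_add]
          simp only [Fin.append_left, Fin.append_right]
          rw [hab, hab']) f hff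
    exact h hff
  obtain ⟨n, a, b, ha, hb, hab⟩ := id hgen
  have hfb : ∀ j, b j * f = b j := fun j => by
    rw [← hf, ← hb j, ← mul_assoc, hfi]
  have hfa : ∀ j, f * a j = a j := fun j => by
    rw [hf, ← ha j, mul_assoc, ← hf, hfi]
  have hia : ∀ j x, b j * x * a j = i * (b j * x * a j) * i := fun j x => by
    rw [← mul_assoc, ← mul_assoc, hb, mul_assoc _ _ i, ha]
  have hia' : ∀ j l x, b j * x * a l = i * (b j * x * a l) * i := fun j l x => by
    rw [← mul_assoc, ← mul_assoc, hb, mul_assoc _ _ i, ha]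
  -- the corner and its radical
  let R : Submodule k A :=
    { carrier := {x | i * x = x ∧ x * i = x}
      add_mem' := by
        rintro x y ⟨h1, h2⟩ ⟨h3, h4⟩
        exact ⟨by rw [mul_add, h1, h3], by rw [add_mul, h2, h4]⟩
      zero_mem' := ⟨mul_zero _, zero_mul _⟩
      smul_mem' := by
        rintro c x ⟨h1, h2⟩
        exact ⟨by rw [mul_smul_comm, h1], by rw [smul_mul_assoc, h2]⟩ }
  have hR : ∀ x, x ∈ R ↔ i * x = x ∧ x * i = x := fun x => Iff.rfl
  have hRc : ∀ x, i * x * i ∈ R := fun x => by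
    rw [hR]
    exact ⟨by rw [← mul_assoc, ← mul_assoc, hi.idem], by rw [mul_assoc, hi.idem]⟩
  have hRmul : ∀ x ∈ R, ∀ y ∈ R, x * y ∈ R := fun x hx y hy => by
    rw [hR] at *
    exact ⟨by rw [← mul_assoc, hx.1], by rw [mul_assoc, hy.2]⟩
  have hiR : i ∈ R := ⟨hi.idem, hi.idem⟩
  let J : Submodule k A :=
    { carrier := {x | x ∈ R ∧ IsNilpotent x}
      add_mem' := by
        rintro x y ⟨h1, h2⟩ ⟨h3, h4⟩
        exact ⟨R.add_mem h1 h3, hi.nilpotent_add k h1.1 h1.2 h3.1 h3.2 h2 h4⟩
      zero_mem' := ⟨R.zero_mem, IsNilpotent.zero⟩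
      smul_mem' := by
        rintro c x ⟨h1, h2⟩
        exact ⟨R.smul_mem _ h1, h2.smul c⟩ }
  have hJ : ∀ x, x ∈ J ↔ x ∈ R ∧ IsNilpotent x := fun x => Iff.rfl
  have hJmul : ∀ x ∈ J, ∀ y ∈ R, x * y ∈ J := fun x hx y hy =>
    ⟨hRmul x hx.1 y hy, hi.nilpotent_mul k hx.1.1 hx.1.2 hy.1 hy.2 hx.2⟩
  have hJscal : ∀ x ∈ R, ∃ μ : k, x - μ • i ∈ J := fun x hx => by
    obtain ⟨μ, hμ⟩ := hi.exists_scalar (k := k) hx.1 hx.2
    exact ⟨μ, R.sub_mem hx (R.smul_mem _ hiR), hμ⟩
  have hiJ : i ∉ J := fun h => hi.not_nilpotent h.2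
  have hcomm : ∀ x ∈ R, ∀ y ∈ R, ∃ x' ∈ J, ∃ y' ∈ J, x * y - y * x = x' * y' - y' * x' := by
    intro x hx y hy
    obtain ⟨μ, hμ⟩ := hJscal x hx
    obtain ⟨ν, hν⟩ := hJscal y hy
    refine ⟨_, hμ, _, hν, ?_⟩
    simp only [sub_mul, mul_sub, smul_mul_assoc, mul_smul_comm, hx.1, hx.2, hy.1, hy.2, hi.idem,
      smul_sub, smul_smul]
    rw [mul_comm ν μ]
    abel
  -- the subspace
  let X1 : Submodule k A := R.map (LinearMap.mulLeft k u)
  let X2 : Submodule k A := Submodule.span k {z | ∃ x ∈ J, ∃ y ∈ J, z = x * y}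
  have hX1J : X1 ≤ J := by
    rintro _ ⟨r, hr, rfl⟩
    rw [LinearMap.mulLeft_apply]
    refine ⟨⟨?_, ?_⟩, isNilpotent_mul_central hu hun⟩
    · rw [← mul_assoc, ← hu i, mul_assoc, hr.1]
    · rw [mul_assoc, hr.2]
  have hX2J : X2 ≤ J := by
    rw [Submodule.span_le]
    rintro _ ⟨x, hx, y, hy, rfl⟩
    exact hJmul x hx y hy.1
  -- trace functions
  have htrace : ∀ τ : A →ₗ[k] k, (∀ z ∈ X1 ⊔ X2, τ z = 0) →
      ∃ z : A, (∃ P : Polynomial k, z = Polynomial.aeval u P * f) ∧ u * z = 0 ∧
        ∀ r ∈ R, τ r = s (z * r) := by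
    intro τ hτ
    have hτc : ∀ x ∈ R, ∀ y ∈ R, τ (x * y) = τ (y * x) := by
      intro x hx y hy
      obtain ⟨x', hx', y', hy', h⟩ := hcomm x hx y hy
      rw [← sub_eq_zero, ← map_sub, h, map_sub,
        hτ _ (Submodule.mem_sup_right (Submodule.subset_span ⟨x', hx', y', hy', rfl⟩)),
        hτ _ (Submodule.mem_sup_right (Submodule.subset_span ⟨y', hy', x', hx', rfl⟩)), sub_zero]
    let τA : A →ₗ[k] k := ∑ j, τ ∘ₗ LinearMap.mulRight k (a j) ∘ₗ LinearMap.mulLeft k (b j)
    have hτA : ∀ x, τA x = ∑ j, τ (b j * x * a j) := by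
      intro x
      rw [LinearMap.sum_apply]; rfl
    have hτAt : ∀ x y, τA (x * y) = τA (y * x) := by
      have hexp : ∀ x y, τA (x * y) = ∑ j, ∑ l, τ ((b j * x * a l) * (b l * y * a j)) := by
        intro x y
        rw [hτA]
        refine Finset.sum_congr rfl fun j _ => ?_
        rw [← map_sum]
        congr 1
        have h1 : b j * (x * y) * a j = b j * x * f * (y * a j) := by
          rw [mul_assoc (b j) x f, ← hf x, ← mul_assoc (b j) f x, hfb]
          simp only [mul_assoc]
        rw [h1, ← hab, Finset.mul_sum, Finset.sum_mul]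
        refine Finset.sum_congr rfl fun l _ => ?_
        simp only [mul_assoc]
      intro x y
      rw [hexp, hexp, Finset.sum_comm]
      refine Finset.sum_congr rfl fun l _ => Finset.sum_congr rfl fun j _ => ?_
      refine hτc _ ?_ _ ?_
      · rw [hia']; exact hRc _
      · rw [hia']; exact hRc _
    obtain ⟨z, hzc, hz⟩ := hs τA hτAt
    have hzf : z * f = z := by
      rw [← sub_eq_zero]
      apply hs0
      intro x
      rw [sub_mul, map_sub, mul_assoc, ← hz, ← hz, hτA, hτA, ← Finset.sum_sub_distrib]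
      refine Finset.sum_eq_zero fun j _ => ?_
      rw [← mul_assoc, hfb, sub_self]
    refine ⟨z, hZ z hzc hzf, ?_, ?_⟩
    · apply hs0
      intro x
      rw [hu z, mul_assoc, ← hz, hτA]
      refine Finset.sum_eq_zero fun j _ => ?_
      apply hτ
      apply Submodule.mem_sup_left
      refine ⟨b j * x * a j, by rw [hia]; exact hRc _, ?_⟩
      rw [LinearMap.mulLeft_apply]
      have : b j * (u * x) = u * (b j * x) := by rw [← mul_assoc, ← hu, mul_assoc]
      rw [this, mul_assoc u]
    · intro r hr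
      rw [← hz, hτA]
      have h1 : ∀ j, τ (b j * r * a j) = τ (r * (i * (a j * b j) * i)) := by
        intro j
        have e1 : b j * r * a j = (b j * i) * (r * (i * a j)) := by
          conv_lhs => rw [← hr.1, ← hr.2]
          simp only [mul_assoc]
        have e2 : b j * i ∈ R := by
          rw [← hb j]; exact hRc _
        have e3 : r * (i * a j) ∈ R := by
          refine hRmul _ hr _ ?_
          rw [← ha j, ← mul_assoc]; exact hRc _
        rw [e1, hτc _ e2 _ e3]
        congr 1
        simp only [mul_assoc]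
      rw [Finset.sum_congr rfl fun j _ => h1 j, ← map_sum, ← Finset.mul_sum]
      have h2 : ∑ j, i * (a j * b j) * i = i := by
        rw [← Finset.sum_mul, ← Finset.mul_sum, hab, hif, hi.idem]
      rw [h2, hr.2]
  -- the trace of the simple module
  obtain ⟨τ0, hτ0i, hτ0J⟩ := Submodule.exists_le_ker_of_notMem (K := k) hiJ
  obtain ⟨z0, ⟨P0, hP0⟩, huz0, hz0⟩ := htrace τ0 (fun z hz => hτ0J ((sup_le hX1J hX2J) hz))
  have hz0ne : z0 ≠ 0 := by
    intro h
    apply hτ0i
    rw [hz0 i hiR, h, zero_mul, map_zero]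
  -- `J` is generated
  have hJle : J ≤ X1 ⊔ X2 := by
    intro x0 hx0
    by_contra hcon
    have hcon' : x0 ∉ (X1 ⊔ X2) ⊔ Submodule.span k {i} := by
      intro h
      obtain ⟨y, hy, w, hw, hyw⟩ := Submodule.mem_sup.1 h
      obtain ⟨c, rfl⟩ := Submodule.mem_span_singleton.1 hw
      have h1 : c • i ∈ J := by
        have : c • i = x0 - y := by rw [← hyw]; abel
        rw [this]
        exact J.sub_mem hx0 ((sup_le hX1J hX2J) hy)
      by_cases hc0 : c = 0
      · apply hcon
        rw [← hyw, hc0, zero_smul, add_zero]; exact hy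
      · apply hiJ
        have := J.smul_mem c⁻¹ h1
        rwa [smul_smul, inv_mul_cancel₀ hc0, one_smul] at this
    obtain ⟨τ, hτx, hτker⟩ := Submodule.exists_le_ker_of_notMem (K := k) hcon'
    obtain ⟨z, ⟨P, hP⟩, huz, hz⟩ := htrace τ
      (fun z hz => hτker (Submodule.mem_sup_left hz))
    obtain ⟨c, hc⟩ := exists_smul_of_ann (k := k) hun (hu f) hf0 (P := P) (Q := P0)
      (by rw [← hP]; exact huz) (by rw [← hP0]; exact huz0) (by rw [← hP0]; exact hz0ne)
    rw [← hP, ← hP0] at hc
    apply hτx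
    rw [hz x0 hx0.1, hc, smul_mul_assoc, map_smul, ← hz0 x0 hx0.1]
    have : τ0 x0 = 0 := hτ0J hx0
    rw [this, smul_zero]
  -- Nakayama
  haveI : IsArtinianRing A := IsArtinianRing.of_finite k A
  haveI : IsNoetherianRing A := IsNoetherianRing.of_finite k A
  have hJu : ∀ x ∈ J, ∃ y : A, x = y * u := by
    let U : Submodule A A := Submodule.span A {u}
    let L : Submodule A A := Submodule.span A (J : Set A)
    have h1 : L.map U.mkQ ≤ Ring.jacobson A • L.map U.mkQ := by
      rw [Submodule.map_span_le]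
      intro x hx
      obtain ⟨y, hy, w, hw, hyw⟩ := Submodule.mem_sup.1 (hJle hx)
      have e1 : U.mkQ y = 0 := by
        obtain ⟨r, hr, rfl⟩ := hy
        rw [Submodule.mkQ_apply, Submodule.Quotient.mk_eq_zero, LinearMap.mulLeft_apply, hu]
        exact Submodule.smul_mem _ _ (Submodule.mem_span_singleton_self u)
      have e2 : U.mkQ x = U.mkQ w := by rw [← hyw, map_add, e1, zero_add]
      rw [e2]
      refine Submodule.span_induction (p := fun w _ => U.mkQ w ∈
        Ring.jacobson A • L.map U.mkQ) ?_ ?_ ?_ ?_ hw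
      · rintro _ ⟨x', hx', y', hy', rfl⟩
        have e3 : U.mkQ (x' * y') = x' • U.mkQ y' := by
          rw [← smul_eq_mul, map_smul]
        rw [e3]
        refine Submodule.smul_mem_smul (mem_jacobson_of_corner k hi hx'.1.1 hx'.1.2 hx'.2) ?_
        exact Submodule.mem_map_of_mem (Submodule.subset_span hy')
      · rw [map_zero]; exact Submodule.zero_mem _
      · intro x' y' _ _ h1 h2
        rw [map_add]; exact Submodule.add_mem _ h1 h2
      · intro c x' _ h1
        have e4 : U.mkQ (c • x') = (algebraMap k A c) • U.mkQ x' := by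
          rw [Algebra.smul_def, ← smul_eq_mul, map_smul]
        rw [e4]
        exact Submodule.smul_mem _ _ h1
    have h2 : L.map U.mkQ = ⊥ := Submodule.FG.eq_bot_of_le_jacobson_smul
      (IsNoetherian.noetherian _) h1
    intro x hx
    have h3 : U.mkQ x ∈ L.map U.mkQ := Submodule.mem_map_of_mem (Submodule.subset_span hx)
    rw [h2, Submodule.mem_bot, Submodule.mkQ_apply, Submodule.Quotient.mk_eq_zero] at h3
    obtain ⟨y, hy⟩ := Submodule.mem_span_singleton.1 h3
    exact ⟨y, by rw [← smul_eq_mul]; exact hy.symm⟩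
  have hJu' : ∀ x ∈ J, ∃ r ∈ R, x = u * r := by
    intro x hx
    obtain ⟨y, hy⟩ := hJu x hx
    refine ⟨i * y * i, hRc y, ?_⟩
    calc x = i * x * i := by rw [hx.1.1, hx.1.2]
      _ = i * (y * u) * i := by rw [← hy]
      _ = u * (i * y * i) := by
        rw [← hu y, ← mul_assoc i u y, ← hu i]
        simp only [mul_assoc]
  refine ⟨i, ⟨hu, hun, hf, hff, hi.idem, hfi, hi.ne_zero, hgen, ?_⟩⟩
  have hiter : ∀ m : ℕ, ∀ r ∈ R, ∃ P : Polynomial k, ∃ r' ∈ R,
      r = Polynomial.aeval u P * i + u ^ m * r' := by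
    intro m
    induction m with
    | zero => intro r hr; exact ⟨0, r, hr, by simp⟩
    | succ m ih =>
      intro r hr
      obtain ⟨P, r', hr', h⟩ := ih r hr
      obtain ⟨μ, hμ⟩ := hJscal r' hr'
      obtain ⟨r'', hr'', h''⟩ := hJu' _ hμ
      refine ⟨P + Polynomial.C μ * Polynomial.X ^ m, r'', hr'', ?_⟩
      have h3 : r' = μ • i + u * r'' := by rw [← h'']; abel
      rw [h]
      conv_lhs => rw [h3]
      rw [map_add, map_mul, map_pow, Polynomial.aeval_C, Polynomial.aeval_X, add_mul, mul_add,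
        pow_succ, ← Algebra.smul_def, smul_mul_assoc, mul_smul_comm]
      simp only [mul_assoc, add_assoc]
  intro x
  obtain ⟨N, hN⟩ := hun
  obtain ⟨P, r', -, h⟩ := hiter N (i * x * i) (hRc x)
  rw [hN, zero_mul, add_zero] at h
  exact ⟨P, h⟩

end Cfsg.Agent.Cyc
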